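import Mathlib
import Cfsg.Prelude.Def_BaumannBlocks

/-!
# Irreducibility of the natural modules occurring in Baumann blocks

* `SL₂(F)'` acts irreducibly on `F²` (as an additive group), for every finite field `F`;
* `Alt(2m+1)` acts irreducibly on the even-weight vectors of `𝔽₂^(2m+1)`;
* the resulting statement `IrrOn` for `ActsAsSL2OnSection` / `ActsAsOddPermModuleOnSection`.
-/

set_option autoImplicit false

namespace Cfsg.Agent.H259.NatMod

open Cfsg Subgroup
open scoped commutatorElement

section SL2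

variable {F : Type*} [Field F]

open Matrix in
/-- the upper transvection -/
def up (s : F) : Matrix.SpecialLinearGroup (Fin 2) F :=
  ⟨!![1, s; 0, 1], by rw [Matrix.det_fin_two]; simp⟩

open Matrix in
/-- the lower transvection -/
def lo (s : F) : Matrix.SpecialLinearGroup (Fin 2) F :=
  ⟨!![1, 0; s, 1], by rw [Matrix.det_fin_two]; simp⟩

open Matrix in
/-- the commutator of the transvections with parameter one -/
def gg (F : Type*) [Field F] : Matrix.SpecialLinearGroup (Fin 2) F :=
  ⟨!![3, -1; 1, 0], by rw [Matrix.det_fin_two]; simp⟩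

theorem gg_mem : gg F ∈ commutator (Matrix.SpecialLinearGroup (Fin 2) F) := by
  have h : gg F = ⁅up (1 : F), lo (1 : F)⁆ := by
    have h1 : gg F * (lo 1 * up 1) = up 1 * lo 1 := by
      apply Subtype.ext
      simp only [Matrix.SpecialLinearGroup.coe_mul]
      change !![3, -1; 1, 0] * (!![1, 0; 1, 1] * !![1, 1; 0, 1]) =
        (!![1, 1; 0, 1] * !![1, 0; 1, 1] : Matrix (Fin 2) (Fin 2) F)
      ext i j
      fin_cases i <;> fin_cases j <;> simp <;> norm_num
    have h2 : ⁅up (1 : F), lo (1 : F)⁆ * (lo 1 * up 1) = up 1 * lo 1 := by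
      rw [commutatorElement_def]; group
    exact mul_right_cancel (h1.trans h2.symm)
  rw [h, _root_.commutator_def]
  exact commutator_mem_commutator (mem_top _) (mem_top _)

variable [Fintype F]

theorem commutator_eq_top (h : 3 < Fintype.card F) :
    commutator (Matrix.SpecialLinearGroup (Fin 2) F) = ⊤ := by
  classical
  have hx : ∃ x : F, x ≠ 0 ∧ x ^ 2 ≠ 1 := by
    have h1 : ({0, 1, -1} : Finset F).card < (Finset.univ : Finset F).card := by
      refine lt_of_le_of_lt Finset.card_le_three ?_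
      rwa [Finset.card_univ]
    obtain ⟨x, -, hx⟩ := Finset.exists_mem_notMem_of_card_lt_card h1
    simp only [Finset.mem_insert, Finset.mem_singleton, not_or] at hx
    refine ⟨x, hx.1, ?_⟩
    intro h2
    rcases (mul_self_eq_one_iff.mp (by rw [← sq]; exact h2) : x = 1 ∨ x = -1) with h3 | h3
    · exact hx.2.1 h3
    · exact hx.2.2 h3
  obtain ⟨x, h0, h1⟩ := hx
  exact Matrix.SL2.commutator_eq_top h0 h1

theorem cast_surj {q : ℕ} (hq : q.Prime) (h : Fintype.card F = q) (x : F) :
    ∃ n : ℕ, n < q ∧ (n : F) = x := by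
  have := Fact.mk hq
  obtain ⟨y, rfl⟩ := (ZMod.ringEquivOfPrime F hq h).surjective x
  refine ⟨y.val, y.val_lt, ?_⟩
  conv_rhs => rw [← ZMod.natCast_zmod_val y]
  rw [map_natCast]

/-- `SL₂(F)'` acts irreducibly on the additive group `F²`. -/
theorem sl2_irr (X : AddSubgroup (Fin 2 → F))
    (hX : ∀ g ∈ commutator (Matrix.SpecialLinearGroup (Fin 2) F), ∀ v ∈ X,
      (g : Matrix (Fin 2) (Fin 2) F).mulVec v ∈ X)
    (hne : ∃ v ∈ X, v ≠ 0) (w : Fin 2 → F) : w ∈ X := by
  obtain ⟨v, hv, hv0⟩ := hne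
  have hvec : ∀ (x : Fin 2 → F), x = ![x 0, x 1] := fun x => by
    ext i; fin_cases i <;> rfl
  by_cases hc : 3 < Fintype.card F
  · have htop := commutator_eq_top (F := F) hc
    have hup : ∀ s : F, ∀ v ∈ X, ![s * v 1, 0] ∈ X := by
      intro s v hv
      have h1 := hX (up s) (by rw [htop]; exact mem_top _) v hv
      have h2 := X.sub_mem h1 hv
      convert h2 using 1
      ext i
      fin_cases i <;> simp [up, dotProduct, Fin.sum_univ_two]
    have hlo : ∀ s : F, ∀ v ∈ X, ![0, s * v 0] ∈ X := by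
      intro s v hv
      have h1 := hX (lo s) (by rw [htop]; exact mem_top _) v hv
      have h2 := X.sub_mem h1 hv
      convert h2 using 1
      ext i
      fin_cases i <;> simp [lo, dotProduct, Fin.sum_univ_two]
    have hA : (∀ x : F, ![x, 0] ∈ X) → (∀ y : F, ![0, y] ∈ X) → w ∈ X := by
      intro h1 h2
      have h3 := X.add_mem (h1 (w 0)) (h2 (w 1))
      rw [hvec w]
      convert h3 using 1
      ext i
      fin_cases i <;> simp
    by_cases h1 : v 1 = 0
    · have h0 : v 0 ≠ 0 := by
        intro h0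
        apply hv0
        rw [hvec v, h0, h1]
        ext i
        fin_cases i <;> rfl
      have hy : ∀ y : F, ![0, y] ∈ X := by
        intro y
        have := hlo (y / v 0) v hv
        rwa [div_mul_cancel₀ _ h0] at this
      refine hA ?_ hy
      intro x
      have := hup x _ (hy 1)
      simpa using this
    · have hx : ∀ x : F, ![x, 0] ∈ X := by
        intro x
        have := hup (x / v 1) v hv
        rwa [div_mul_cancel₀ _ h1] at this
      refine hA hx ?_
      intro y
      have := hlo y _ (hx 1)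
      simpa using this
  · have hq : ∃ q : ℕ, (q = 2 ∨ q = 3) ∧ Fintype.card F = q := by
      have h1 : 1 < Fintype.card F := Fintype.one_lt_card
      exact ⟨_, by omega, rfl⟩
    obtain ⟨q, hq23, hq⟩ := hq
    have hqp : q.Prime := by
      rcases hq23 with rfl | rfl
      · exact Nat.prime_two
      · exact Nat.prime_three
    have hq0 : (q : F) = 0 := by
      rw [← hq]
      exact Nat.cast_card_eq_zero F
    have hsm : ∀ (c : F), ∀ v ∈ X, c • v ∈ X := by
      intro c v hv
      obtain ⟨n, -, rfl⟩ := cast_surj hqp hq c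
      have := X.nsmul_mem hv n
      convert this using 1
      ext i
      simp
    set a := v 0 with ha
    set b := v 1 with hb
    have hg : ![3 * a - b, a] ∈ X := by
      have h1 := hX _ gg_mem v hv
      convert h1 using 1
      ext i
      fin_cases i <;> simp [gg, Matrix.mulVec, dotProduct, Fin.sum_univ_two, a, b] <;> ring
    have hD : a * a - 3 * a * b + b * b ≠ 0 := by
      obtain ⟨n, hn, hna⟩ := cast_surj hqp hq a
      obtain ⟨m, hm, hmb⟩ := cast_surj hqp hq b
      have hnm : ¬ (n = 0 ∧ m = 0) := by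
        rintro ⟨rfl, rfl⟩
        apply hv0
        rw [hvec v, ← ha, ← hb, ← hna, ← hmb]
        ext i
        fin_cases i <;> simp
      rw [← hna, ← hmb]
      have h1 : (1 : F) ≠ 0 := one_ne_zero
      rcases hq23 with rfl | rfl
      · have h2 : (2 : F) = 0 := by exact_mod_cast hq0
        have h3 : (3 : F) = 1 := by linear_combination h2
        interval_cases n <;> interval_cases m <;> simp [h3] at hnm ⊢
      · have h3 : (3 : F) = 0 := by exact_mod_cast hq0
        have h4 : (2 : F) = -1 := by linear_combination h3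
        interval_cases n <;> interval_cases m <;> simp [h3, h4] at hnm ⊢
        all_goals
          intro h5
          apply h1
          first
            | linear_combination h5
            | linear_combination -h5 + h3
    set D := a * a - 3 * a * b + b * b with hDdef
    have h1 := X.add_mem (hsm ((w 0 * a - w 1 * (3 * a - b)) / D) v hv)
      (hsm ((a * w 1 - b * w 0) / D) _ hg)
    convert h1 using 1
    ext i
    fin_cases i
    · simp only [Fin.zero_eta, Fin.isValue, Pi.add_apply, Pi.smul_apply, smul_eq_mul,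
        Matrix.cons_val_zero, ← ha]
      field_simp
      rw [hDdef]
      ring
    · simp only [Fin.mk_one, Fin.isValue, Pi.add_apply, Pi.smul_apply, smul_eq_mul,
        Matrix.cons_val_one, Matrix.cons_val_fin_one, ← hb]
      field_simp
      rw [hDdef]
      ring

end SL2

section Alt

/-- the alternating group of odd degree acts irreducibly on the even-weight vectors -/
theorem alt_irr (n : ℕ) (hn : Odd n) (X : AddSubgroup (Fin n → ZMod 2))
    (hX : ∀ σ ∈ alternatingGroup (Fin n), ∀ v ∈ X, (fun i => v (σ i)) ∈ X)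
    (hX0 : ∀ v ∈ X, ∑ i, v i = 0)
    (hne : ∃ v ∈ X, v ≠ 0) (w : Fin n → ZMod 2) (hw : ∑ i, w i = 0) : w ∈ X := by
  classical
  have h01 : ∀ x : ZMod 2, x = 0 ∨ x = 1 := by decide
  obtain ⟨v, hv, hv0⟩ := hne
  obtain ⟨a, ha⟩ : ∃ a, v a ≠ 0 := by
    by_contra h
    push Not at h
    exact hv0 (funext h)
  have ha1 : v a = 1 := (h01 _).resolve_left ha
  obtain ⟨c, hc⟩ : ∃ c, v c = 0 := by
    by_contra h
    push Not at h
    have h1 : ∀ i, v i = 1 := fun i => (h01 _).resolve_left (h i)
    have h2 := hX0 v hv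
    rw [Finset.sum_congr rfl (fun i _ => h1 i)] at h2
    simp only [Finset.sum_const, Finset.card_univ, Fintype.card_fin, nsmul_eq_mul, mul_one] at h2
    rw [ZMod.natCast_eq_zero_iff] at h2
    obtain ⟨k, hk⟩ := hn
    omega
  obtain ⟨b, hba, hb⟩ : ∃ b, b ≠ a ∧ v b ≠ 0 := by
    by_contra h
    push Not at h
    have h2 := hX0 v hv
    rw [Finset.sum_eq_single a (fun b _ hb => h b hb) (fun h => absurd (Finset.mem_univ _) h)] at h2
    exact ha h2
  have hb1 : v b = 1 := (h01 _).resolve_left hb
  have hac : a ≠ c := fun h => ha (h ▸ hc)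
  have hbc : b ≠ c := fun h => hb (h ▸ hc)
  have htwo : ∀ x : ZMod 2, x + x = 0 := by decide
  -- the three-cycle `x ↦ y ↦ z ↦ x`
  have hcyc : ∀ x y z : Fin n, x ≠ y → y ≠ z → x ≠ z →
      Equiv.swap x y * Equiv.swap y z ∈ alternatingGroup (Fin n) := by
    intro x y z h1 h2 h3
    rw [Equiv.Perm.mem_alternatingGroup, Equiv.Perm.sign_mul, Equiv.Perm.sign_swap h1,
      Equiv.Perm.sign_swap h2]
    rfl
  have hcycx : ∀ x y z : Fin n, x ≠ y → y ≠ z → x ≠ z →
      (Equiv.swap x y * Equiv.swap y z) x = y := by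
    intro x y z h1 h2 h3
    rw [Equiv.Perm.mul_apply, Equiv.swap_apply_of_ne_of_ne h1 h3, Equiv.swap_apply_left]
  have hcycy : ∀ x y z : Fin n, x ≠ y → y ≠ z → x ≠ z →
      (Equiv.swap x y * Equiv.swap y z) y = z := by
    intro x y z h1 h2 h3
    rw [Equiv.Perm.mul_apply, Equiv.swap_apply_left, Equiv.swap_apply_of_ne_of_ne h3.symm h2.symm]
  have hcycz : ∀ x y z : Fin n, x ≠ y → y ≠ z → x ≠ z →
      (Equiv.swap x y * Equiv.swap y z) z = x := by
    intro x y z h1 h2 h3
    rw [Equiv.Perm.mul_apply, Equiv.swap_apply_right, Equiv.swap_apply_right]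
  have hcyco : ∀ x y z i : Fin n, i ≠ x → i ≠ y → i ≠ z →
      (Equiv.swap x y * Equiv.swap y z) i = i := by
    intro x y z i h1 h2 h3
    rw [Equiv.Perm.mul_apply, Equiv.swap_apply_of_ne_of_ne h2 h3,
      Equiv.swap_apply_of_ne_of_ne h1 h2]
  -- the vector `e_x + e_y`
  let e : Fin n → Fin n → Fin n → ZMod 2 := fun x y => Pi.single x 1 + Pi.single y 1
  have he : e b c ∈ X := by
    have h1 := X.add_mem hv (hX _ (hcyc a b c hba.symm hbc hac) v hv)
    convert h1 using 1
    ext i
    change e b c i = v i + v ((Equiv.swap a b * Equiv.swap b c) i)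
    by_cases hia : i = a
    · subst hia
      rw [hcycx i b c hba.symm hbc hac, ha1, hb1, htwo]
      simp [e, hba.symm, hac]
    · by_cases hib : i = b
      · subst hib
        rw [hcycy a i c hba.symm hbc hac, hb1, hc]
        simp [e, hbc]
      · by_cases hic : i = c
        · subst hic
          rw [hcycz a b i hba.symm hbc hac, ha1, hc]
          simp [e, hbc.symm]
        · rw [hcyco a b c i hia hib hic, htwo]
          simp [e, hib, hic]
  have hed : ∀ d : Fin n, e b d ∈ X := by
    intro d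
    by_cases hdb : d = b
    · subst hdb
      have : e d d = 0 := by
        ext i
        simp only [e, Pi.add_apply, htwo, Pi.zero_apply]
      rw [this]
      exact X.zero_mem
    · by_cases hdc : d = c
      · subst hdc; exact he
      · -- apply the three-cycle `b ↦ d`? we need `fun i => e b c (σ i) = e b d`
        -- i.e. `σ b = b`-type: use `σ b = c`, `σ d = b`, `σ c = d`
        have h1 := hX _ (hcyc b c d hbc (Ne.symm hdc) (Ne.symm hdb)) _ he
        convert h1 using 1
        ext i
        change e b d i = e b c ((Equiv.swap b c * Equiv.swap c d) i)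
        by_cases hib : i = b
        · subst hib
          rw [hcycx i c d hbc (Ne.symm hdc) (Ne.symm hdb)]
          simp [e, hbc, hbc.symm, Ne.symm hdb]
        · by_cases hic : i = c
          · subst hic
            rw [hcycy b i d hbc (Ne.symm hdc) (Ne.symm hdb)]
            simp [e, hib, hdc, hdb, Ne.symm hdc]
          · by_cases hid : i = d
            · subst hid
              rw [hcycz b c i hbc (Ne.symm hdc) (Ne.symm hdb)]
              simp [e, hib, hbc]
            · rw [hcyco b c d i hib hic hid]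
              simp [e, hib, hic, hid]
  have hsum : w = ∑ d, (w d).val • e b d := by
    ext i
    rw [Finset.sum_apply]
    have h1 : ∀ d, ((w d).val • e b d) i =
        w d * (Pi.single b 1 : Fin n → ZMod 2) i + w d * (Pi.single d 1 : Fin n → ZMod 2) i := by
      intro d
      simp only [e, Pi.smul_apply, Pi.add_apply, nsmul_eq_mul, ZMod.natCast_val, ZMod.cast_id',
        id_eq]
      ring
    rw [Finset.sum_congr rfl (fun d _ => h1 d), Finset.sum_add_distrib, ← Finset.sum_mul, hw,
      zero_mul, zero_add, Finset.sum_eq_single i]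
    · simp
    · intro d _ hd
      simp [Pi.single_apply, Ne.symm hd]
    · intro h; exact absurd (Finset.mem_univ _) h
  rw [hsum]
  exact X.sum_mem fun d _ => X.nsmul_mem (hed d) _

end Alt

section Section

variable {G : Type*} [Group G]

/-- `E` acts irreducibly on `U / U₀` -/
def IrrOn (E U U₀ : Subgroup G) : Prop :=
  ∀ Y : Subgroup G, Y ≤ U → E ≤ normalizer (Y : Set G) → ¬ Y ≤ U₀ → U ≤ Y ⊔ U₀

theorem irrOn_sl2 {F : Type*} [Field F] [Fintype F] {E U U₀ : Subgroup G}
    (h : ActsAsSL2OnSection F (commutator (Matrix.SpecialLinearGroup (Fin 2) F)) E U U₀) :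
    IrrOn E U U₀ := by
  obtain ⟨hN, hU₀, ρ, ψ, hρ, hψ, hker, hact⟩ := h
  intro Y hY hEY hYU
  let X : AddSubgroup (Fin 2 → F) :=
    { carrier := {v | ∃ u : U, (u : G) ∈ Y ∧ Multiplicative.toAdd (ψ u) = v}
      zero_mem' := ⟨1, one_mem _, by rw [map_one, toAdd_one]⟩
      add_mem' := by
        rintro _ _ ⟨u, hu, rfl⟩ ⟨u', hu', rfl⟩
        exact ⟨u * u', mul_mem hu hu', by rw [map_mul, toAdd_mul]⟩
      neg_mem' := by
        rintro _ ⟨u, hu, rfl⟩
        exact ⟨u⁻¹, inv_mem hu, by rw [map_inv, toAdd_inv]⟩ }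
  have hXX : ∀ w, w ∈ X := by
    apply sl2_irr X
    · rintro g hg _ ⟨u, hu, rfl⟩
      rw [← hρ] at hg
      obtain ⟨e, rfl⟩ := hg
      obtain ⟨w, hw, hw2⟩ := hact e u
      refine ⟨w, ?_, hw2⟩
      rw [hw]
      exact (mem_normalizer_iff.1 (hEY e.2) _).1 hu
    · obtain ⟨y, hy, hyU⟩ := SetLike.not_le_iff_exists.1 hYU
      refine ⟨_, ⟨⟨y, hY hy⟩, hy, rfl⟩, ?_⟩
      intro h0
      apply hyU
      rw [← hker ⟨y, hY hy⟩]
      exact Multiplicative.toAdd.injective h0
  intro u hu
  obtain ⟨y, hy, hyu⟩ := hXX (Multiplicative.toAdd (ψ ⟨u, hu⟩))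
  have h1 : (y : G)⁻¹ * u ∈ U₀ := by
    have h2 : ψ (y⁻¹ * ⟨u, hu⟩) = 1 := by
      rw [map_mul, map_inv, Multiplicative.toAdd.injective hyu, inv_mul_cancel]
    exact (hker _).1 h2
  have h3 : u = (y : G) * ((y : G)⁻¹ * u) := by group
  rw [h3]
  exact mul_mem_sup hy h1

theorem irrOn_alt {m : ℕ} {E U U₀ : Subgroup G}
    (h : ActsAsOddPermModuleOnSection (2 * m + 1) (alternatingGroup (Fin (2 * m + 1))) E U U₀) :
    IrrOn E U U₀ := by
  obtain ⟨hN, hU₀, ρ, ψ, hρ, hψ0, hψ, hker, hact⟩ := h
  intro Y hY hEY hYU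
  let X : AddSubgroup (Fin (2 * m + 1) → ZMod 2) :=
    { carrier := {v | ∃ u : U, (u : G) ∈ Y ∧ Multiplicative.toAdd (ψ u) = v}
      zero_mem' := ⟨1, one_mem _, by rw [map_one, toAdd_one]⟩
      add_mem' := by
        rintro _ _ ⟨u, hu, rfl⟩ ⟨u', hu', rfl⟩
        exact ⟨u * u', mul_mem hu hu', by rw [map_mul, toAdd_mul]⟩
      neg_mem' := by
        rintro _ ⟨u, hu, rfl⟩
        exact ⟨u⁻¹, inv_mem hu, by rw [map_inv, toAdd_inv]⟩ }
  have hXX : ∀ w : Fin (2 * m + 1) → ZMod 2, ∑ i, w i = 0 → w ∈ X := by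
    apply alt_irr (2 * m + 1) ⟨m, rfl⟩ X
    · rintro g hg _ ⟨u, hu, rfl⟩
      rw [← inv_mem_iff, ← hρ] at hg
      obtain ⟨e, he⟩ := hg
      obtain ⟨w, hw, hw2⟩ := hact e u
      refine ⟨w, ?_, ?_⟩
      · rw [hw]
        exact (mem_normalizer_iff.1 (hEY e.2) _).1 hu
      · funext i
        rw [hw2, he, inv_inv]
    · rintro _ ⟨u, hu, rfl⟩
      exact hψ0 u
    · obtain ⟨y, hy, hyU⟩ := SetLike.not_le_iff_exists.1 hYU
      refine ⟨_, ⟨⟨y, hY hy⟩, hy, rfl⟩, ?_⟩
      intro h0
      apply hyU
      rw [← hker ⟨y, hY hy⟩]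
      exact Multiplicative.toAdd.injective h0
  intro u hu
  obtain ⟨y, hy, hyu⟩ := hXX (Multiplicative.toAdd (ψ ⟨u, hu⟩)) (hψ0 _)
  have h1 : (y : G)⁻¹ * u ∈ U₀ := by
    have h2 : ψ (y⁻¹ * ⟨u, hu⟩) = 1 := by
      rw [map_mul, map_inv, Multiplicative.toAdd.injective hyu, inv_mul_cancel]
    exact (hker _).1 h2
  have h3 : u = (y : G) * ((y : G)⁻¹ * u) := by group
  rw [h3]
  exact mul_mem_sup hy h1

end Section

end Cfsg.Agent.H259.NatMod
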