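import Cfsg.Agent.H260.Push6

/-!
# Uniform Glauberman–Niles: the subgroup `S₀`, as a verbal subgroup inside an ambient group
-/

set_option autoImplicit false
set_option linter.unusedSectionVars false

namespace Cfsg.Agent.H259.GN

open Subgroup
open Cfsg.Agent.H260.Push
open scoped commutatorElement

/-- the subgroup `S₀` of S2808 (`phi p S = Φ(S)` for a `p`-group `S`) -/
def S0 {X : Type*} [Group X] (p : ℕ) (S : Subgroup X) : Subgroup X :=
  if p = 2 then ⁅phi p S, S⁆ ⊔ phi p (phi p S)
  else if p = 3 then ⁅⁅phi p S, S⁆, S⁆ ⊔ phi p (phi p S)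
  else ⁅phi p S, S⁆ ⊔ Cfsg.powerClosure p 1 S

section

variable {X Y : Type*} [Group X] [Group Y]

theorem powerClosure_map (f : X →* Y) (p n : ℕ) (S : Subgroup X) :
    (Cfsg.powerClosure p n S).map f = Cfsg.powerClosure p n (S.map f) := by
  unfold Cfsg.powerClosure
  rw [MonoidHom.map_closure]
  congr 1
  ext y
  constructor
  · rintro ⟨_, ⟨x, hx, rfl⟩, rfl⟩
    exact ⟨f x, mem_map_of_mem f hx, by rw [map_pow]⟩
  · rintro ⟨_, ⟨x, hx, rfl⟩, rfl⟩
    exact ⟨x ^ p ^ n, ⟨x, hx, rfl⟩, by rw [map_pow]⟩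

theorem S0_map (f : X →* Y) (p : ℕ) (S : Subgroup X) : (S0 p S).map f = S0 p (S.map f) := by
  unfold S0
  split_ifs <;>
  simp only [Subgroup.map_sup, map_commutator, phi_map, powerClosure_map]

end

theorem frattini_eq_phi {S : Type*} [Group S] [Finite S] {p : ℕ} [Fact p.Prime] (hS : IsPGroup p S) :
    frattini S = phi p (⊤ : Subgroup S) := by
  apply le_antisymm
  · have hn : (phi p (⊤ : Subgroup S)).Normal := by
      constructor
      intro x hx g
      have h2 : g * x * g⁻¹ = ⁅g, x⁆ * x := by rw [commutatorElement_def]; group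
      rw [h2]
      exact mul_mem (comm_mem_phi (mem_top g) (mem_top x)) hx
    exact Lib.FrattiniPGroup.frattini_le (p := p) _ (fun x y => comm_mem_phi (mem_top x) (mem_top y))
      (fun x => pow_mem_phi (mem_top x))
  · unfold phi
    rw [closure_le]
    rintro _ (⟨x, hx, y, hy, rfl⟩ | ⟨x, hx, rfl⟩)
    · exact Lib.FrattiniPGroup.commutator_mem_frattini hS x y
    · exact Lib.FrattiniPGroup.pow_mem_frattini hS x

/-- for the whole group this is the expression of the statements -/
theorem S0_top {S : Type*} [Group S] [Finite S] {p : ℕ} [Fact p.Prime] (hS : IsPGroup p S) :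
    S0 p (⊤ : Subgroup S) = if p = 2 then ⁅frattini S, (⊤ : Subgroup S)⁆ ⊔ (frattini ↥(frattini S)).map (frattini S).subtype
      else if p = 3 then ⁅⁅frattini S, (⊤ : Subgroup S)⁆, (⊤ : Subgroup S)⁆ ⊔ (frattini ↥(frattini S)).map (frattini S).subtype
      else ⁅frattini S, (⊤ : Subgroup S)⁆ ⊔ Cfsg.powerClosure p 1 (⊤ : Subgroup S) := by
  have h1 : phi p (⊤ : Subgroup S) = frattini S := (frattini_eq_phi hS).symm
  have h4 : phi p (frattini S) = (frattini ↥(frattini S)).map (frattini S).subtype :=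
    (frattini_map_eq (frattini S) (hS.to_subgroup _)).symm
  unfold S0
  rw [h1, h4]

end Cfsg.Agent.H259.GN
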