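import Cfsg.Agent.H259.GN4
import Cfsg.Agent.H259.GNS0
import Cfsg.Agent.PLocal.ThompsonJA

/-!
# Uniform Glauberman–Niles: the pair for one `p`-group
-/

set_option autoImplicit false
set_option linter.unusedSectionVars false

namespace Cfsg.Agent.H259.GN

open Subgroup
open Cfsg.Agent.H260.Push
open scoped commutatorElement

universe u

/-- `Y ≤ X` is (the image of) a pushing-up group over `S` to which the structure theorem applies. -/
def Real (p : ℕ) {X : Type u} [Group X] (S Y M Q : Subgroup X) (q : ℕ) : Prop :=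
  ∃ (G : Type u) (_ : Group G) (_ : Finite G) (φ : G →* X) (P T L : Subgroup G),
    Function.Injective φ ∧ P.map φ = S ∧ T.map φ = Q ∧ L.map φ = M ∧ φ.range = Y ∧
      Cfsg.IsPushingUpSituation p P ∧ Core p q P T L ∧ Core.Nat' p q P T L

/-- the statement (D) -/
def StD (p : ℕ) : Prop :=
  ∀ (G : Type u) [Group G] [Finite G] (q : ℕ) (S T M : Subgroup G), Core p q S T M →
    Core.Nat' p q S T M → Cfsg.IsPushingUpSituation p S → (∀ z ∈ cen S, z ^ p = 1) →
    (∀ z ∈ cen T, z ^ p = 1) →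
    ¬ S0 p S ⊓ cen S ≤ center G → ¬ S0 p S ⊓ ⁅cen T, S⁆ ≤ center G

/-- the statement (E) -/
def StE (p : ℕ) : Prop :=
  ∀ (X : Type u) [Group X] [Finite X] (q q' : ℕ) (S G M Q G' M' Q' : Subgroup X),
    PU S G M Q q → PU S G' M' Q' q' → IsPGroup p S → (∀ z ∈ cen S, z ^ p = 1) →
    (∀ z ∈ cen Q, z ^ p = 1) → (∀ z ∈ cen Q', z ^ p = 1) → ¬ Cm (cen Q) (cen Q') →
    S0 p S ⊓ cen S ≤ cen G

/-- the statement (6) -/
def St6 (p : ℕ) : Prop :=
  ∀ (X : Type u) [Group X] [Finite X] (q : ℕ) (S G M Q H N P : Subgroup X),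
    Pair S G M Q H N P q → Real p S G M Q q → Real p S H N P q → IsPGroup p S →
    (∀ z ∈ cen S, z ^ p = 1) → (∀ z ∈ cen Q, z ^ p = 1) → (∀ z ∈ cen P, z ^ p = 1) →
    S0 p S ⊓ cen S ≤ cen G

section

variable {X : Type u} [Group X]

theorem Real.pu {p q : ℕ} [Fact p.Prime] {S Y M Q : Subgroup X} (h : Real p S Y M Q q) :
    PU S Y M Q q := by
  obtain ⟨G, _, _, φ, P, T, L, hφ, rfl, rfl, rfl, rfl, hpu, c, n⟩ := h
  exact PU.of_core φ hφ c n

theorem Real.core_eq {p q : ℕ} [Fact p.Prime] {S Y M Q : Subgroup X} (h : Real p S Y M Q q) :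
    Q = Qc S Y := by
  obtain ⟨G, _, _, φ, P, T, L, hφ, rfl, rfl, rfl, rfl, hpu, c, n⟩ := h
  exact (Core.Qc_eq φ hφ c).symm

theorem Real.one_lt {p q : ℕ} [Fact p.Prime] {S Y M Q : Subgroup X} (h : Real p S Y M Q q) :
    1 < q := by
  obtain ⟨G, _, _, φ, P, T, L, hφ, rfl, rfl, rfl, rfl, hpu, c, n⟩ := h
  have h1 := c.card
  have h2 := c.qpos
  by_contra h3
  have h4 : q = 1 := by omega
  rw [h4, one_mul] at h1
  exact c.ne (eq_of_le_of_card_le c.le h1.le).symm

theorem Real.tw {p q : ℕ} {S Y M Q : Subgroup X} {a : X} (ha : a ∈ normalizer (S : Set X))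
    (h : Real p S Y M Q q) : Real p S (cj a Y) (cj a M) (cj a Q) q := by
  obtain ⟨G, _, _, φ, P, T, L, hφ, h1, rfl, rfl, rfl, hpu, c, n⟩ := h
  refine ⟨G, inferInstance, inferInstance, (MulAut.conj a).toMonoidHom.comp φ, P, T, L, ?_, ?_, ?_,
    ?_, ?_, hpu, c, n⟩
  · exact (MulAut.conj a).injective.comp hφ
  · rw [← Subgroup.map_map, h1]
    exact cj_eq_of_mem_normalizer ha
  · rw [← Subgroup.map_map]; rfl
  · rw [← Subgroup.map_map]; rfl
  · rw [MonoidHom.range_comp]; rfl

theorem Real.mcl_case {p q : ℕ} [Fact p.Prime] {S Y M Q R : Subgroup X} (h : Real p S Y M Q q)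
    (hR : MCL S R) : R ≤ Q ∨ (R ⊓ cen Q = cen S ∧ MCL S ((R ⊓ Q) ⊔ cen Q)) := by
  obtain ⟨G, _, _, φ, P, T, L, hφ, rfl, rfl, rfl, rfl, hpu, c, n⟩ := h
  have h3 : (R.comap φ).map φ = R := Subgroup.map_comap_eq_self (hR.1.1.trans (map_le_range φ P))
  rw [← h3] at hR ⊢
  rw [mcl_map φ hφ] at hR
  rcases mcl_cases c n hR with h1 | h1
  · left
    exact Subgroup.map_mono h1.1
  · right
    rw [← map_cen φ hφ, ← map_cen φ hφ, ← inf_map' φ hφ, ← inf_map' φ hφ, ← Subgroup.map_sup,
      mcl_map φ hφ]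
    exact ⟨by rw [h1.2.1], h1.2.2.1⟩

theorem Real.mcl_conj {p q : ℕ} [Fact p.Prime] {S Y M Q R : Subgroup X} (h : Real p S Y M Q q)
    (hR : MCL S R) (hRQ : R ≤ Q) {y : X} (hy : y ∈ Y) : MCL S (cj y R) := by
  obtain ⟨G, _, _, φ, P, T, L, hφ, rfl, rfl, rfl, rfl, hpu, c, n⟩ := h
  obtain ⟨g, rfl⟩ := hy
  have h3 : (R.comap φ).map φ = R := Subgroup.map_comap_eq_self (hR.1.1.trans (map_le_range φ P))
  rw [← h3] at hR hRQ ⊢
  rw [mcl_map φ hφ] at hR
  rw [map_le_iff' φ hφ] at hRQ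
  rw [← map_cj, mcl_map φ hφ]
  exact (H260.Push.mcl_conj c hR hRQ g).1

theorem Real.V_not_le {p q : ℕ} [Fact p.Prime] [Finite X] {S Y M Q : Subgroup X}
    (h : Real p S Y M Q q) : ¬ cen Q ≤ cen S := by
  intro h1
  have h2 := h.pu.cardV
  have h3 := h.one_lt
  have h4 : Nat.card (cen Q) ≤ Nat.card (cen S) := Nat.card_mono (Set.toFinite _) h1
  have h5 : 0 < Nat.card (cen S) := Nat.card_pos
  rw [h2] at h4
  nlinarith

theorem cl_of_clr {S : Type*} [Group S] [Finite S] {R : Subgroup S} (h : CLr ⊤ R) :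
    Cfsg.IsCentrallyLarge R := by
  obtain ⟨R₀, hR₀⟩ := H264.CD.exists_cent (G := S)
  have h1 : ∀ R : Subgroup S, mu R = Nat.card R * Nat.card (Subgroup.center R) := by
    intro R
    unfold mu
    rw [H264.CD.card_center_eq]
    rfl
  have h2 := h.2 R₀ le_top
  rw [h1, h1] at h2
  refine le_antisymm (H264.CD.cent_le R) ?_
  have h3 : Nat.card R₀ * Nat.card (Subgroup.center R₀) = Cfsg.maxCentralProduct S := hR₀
  rw [← h3]
  exact h2

theorem pow_cen {G : Type*} [Group G] [Finite G] {p q : ℕ} [Fact p.Prime] {S T M : Subgroup G}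
    (c : Core p q S T M) (n : Core.Nat' p q S T M) (hZ : ∀ z ∈ cen S, z ^ p = 1) :
    ∀ z ∈ cen T, z ^ p = 1 := by
  obtain ⟨g, hg⟩ := c.exists_notMem_M
  have h1 := n.sup g hg
  let U : Subgroup G :=
    { carrier := {z | z ∈ cen T ∧ z ^ p = 1}
      one_mem' := ⟨one_mem _, one_pow _⟩
      mul_mem' := by
        rintro a b ⟨ha, ha'⟩ ⟨hb, hb'⟩
        refine ⟨mul_mem ha hb, ?_⟩
        have h2 : Commute a b := c.cenT_comm ha hb
        rw [h2.mul_pow, ha', hb', one_mul]
      inv_mem' := by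
        rintro a ⟨ha, ha'⟩
        refine ⟨inv_mem ha, ?_⟩
        rw [inv_pow, ha', inv_one] }
  have h2 : cen T ≤ U := by
    have h4 := c.normX
    have h3 : cen S ⊔ cj g (cen S) ≤ U := by
      apply sup_le
      · intro z hz
        exact ⟨c.Zs_le hz, hZ z hz⟩
      · intro z hz
        rw [mem_cj] at hz
        refine ⟨?_, ?_⟩
        · have := h4.conj_mem _ (c.Zs_le hz) g
          have e : g * (g⁻¹ * z * g) * g⁻¹ = z := by group
          rwa [e] at this
        · have h5 := hZ _ hz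
          have e : z = g * (g⁻¹ * z * g) * g⁻¹ := by group
          rw [e, conj_pow, h5]
          group
    rwa [h1] at h3
  exact fun z hz => (h2 hz).2

theorem map_pow_cen {G : Type*} [Group G] (φ : G →* X) (hφ : Function.Injective φ) {p : ℕ}
    {S : Subgroup G} : (∀ z ∈ cen (S.map φ), z ^ p = 1) ↔ ∀ z ∈ cen S, z ^ p = 1 := by
  rw [← map_cen φ hφ]
  constructor
  · intro h z hz
    apply hφ
    rw [map_pow, map_one]
    exact h _ (mem_map_of_mem φ hz)
  · rintro h _ ⟨z, hz, rfl⟩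
    rw [← map_pow, h z hz, map_one]

end

/-- nontrivial normal subgroups meet the centre -/
theorem inf_center_ne_bot {S : Type*} [Group S] [Finite S] {p : ℕ} [Fact p.Prime] (hS : IsPGroup p S)
    {N : Subgroup S} [hN : N.Normal] (h : N ≠ ⊥) : N ⊓ center S ≠ ⊥ := by
  have h1 : Nontrivial N := (Subgroup.nontrivial_iff_ne_bot _).2 h
  have h2 : IsPGroup p (ConjAct S) := hS.of_equiv ConjAct.toConjAct
  have h3 : p ∣ Nat.card N := by
    obtain ⟨n, hn⟩ := (hS.to_subgroup N).exists_card_eq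
    have h4 : n ≠ 0 := by
      rintro rfl
      rw [pow_zero] at hn
      have := Finite.one_lt_card (α := N)
      omega
    rw [hn]
    exact dvd_pow_self p h4
  have h4 : (1 : N) ∈ MulAction.fixedPoints (ConjAct S) N := by
    intro g
    exact smul_one g
  obtain ⟨b, hb, hb1⟩ := h2.exists_fixed_point_of_prime_dvd_card_of_fixed_point N h3 h4
  intro h5
  apply hb1
  have h6 : (b : S) ∈ N ⊓ center S := by
    refine ⟨b.2, ?_⟩
    change (b : S) ∈ center S
    rw [mem_center_iff]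
    intro g
    have h7 := congrArg (fun x : N => (x : S)) (hb (ConjAct.toConjAct g))
    simp only [ConjAct.Subgroup.val_conj_smul, ConjAct.smul_def, ConjAct.ofConjAct_toConjAct] at h7
    rw [mul_inv_eq_iff_eq_mul] at h7
    exact h7
  rw [h5, mem_bot] at h6
  exact Subtype.ext h6.symm

section main

variable {S : Type u} [Group S] [Finite S] {p : ℕ} [hp : Fact p.Prime]

/-- the ambient group -/
abbrev Am (S : Type u) [Group S] : Type u := Equiv.Perm (S × Fin (Nat.card S).factorial)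

/-- the fixed embedding -/
noncomputable abbrev la (S : Type u) [Group S] : S →* Am S := lam S (Nat.card S).factorial

theorem la_inj : Function.Injective (la S) := lam_injective S _ (Nat.factorial_pos _)

theorem exists_emb {G : Type u} [Group G] [Finite G] (τ : S →* G) (hτ : Function.Injective τ)
    (hpu : Cfsg.IsPushingUpSituation p τ.range) :
    ∃ φ : G →* Am S, Function.Injective φ ∧ ∀ s, φ (τ s) = la S s := by
  obtain ⟨q, M, c⟩ := exists_core hpu
  have h1 : Nat.card G ∣ Nat.card S * (Nat.card S).factorial := by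
    have hn := c.normT
    have h2 := card_dvd_of_centralizer_le (Cfsg.pCore p G) c.cent
    have h3 : Nat.card (Cfsg.pCore p G) ∣ Nat.card S := by
      have h4 := Subgroup.card_dvd_of_le c.le
      have h5 : Nat.card τ.range = Nat.card S :=
        (Nat.card_congr (MonoidHom.ofInjective hτ).toEquiv).symm
      rwa [h5] at h4
    refine h2.trans (mul_dvd_mul h3 (Nat.factorial_dvd_factorial ?_))
    exact Nat.le_of_dvd Nat.card_pos h3
  obtain ⟨φ, h2, h3⟩ := exists_embed τ hτ h1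
  exact ⟨φ, h3 (Nat.factorial_pos _), h2⟩

theorem map_la {G : Type*} [Group G] {τ : S →* G} {φ : G →* Am S} (h : ∀ s, φ (τ s) = la S s)
    (R : Subgroup S) : (R.map τ).map φ = R.map (la S) := by
  rw [Subgroup.map_map]
  congr 1
  ext1 s
  exact h s

/-- `Z(J(S))` -/
theorem zj_map {G : Type*} [Group G] (τ : S →* G) (hτ : Function.Injective τ) :
    (Cfsg.thompsonSubgroupA S ⊓ centralizer (Cfsg.thompsonSubgroupA S : Set S) : Subgroup S).map τ =
      Cfsg.centerThompsonAOf τ.range := by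
  have h1 : Cfsg.thompsonSubgroupA S = Cfsg.thompsonSubgroupAOf (⊤ : Subgroup S) := by
    rw [PLocal.ThompsonJA.thompsonSubgroupAOf_eq_sSup]
    unfold Cfsg.thompsonSubgroupA
    congr 1
    ext A
    rw [PLocal.ThompsonJA.mem_maxAbelianIn]
    constructor
    · rintro ⟨h1, h2⟩
      exact ⟨le_top, h1, fun B _ hB => h2 B hB⟩
    · rintro ⟨-, h1, h2⟩
      exact ⟨h1, fun B hB => h2 B le_top hB⟩
  rw [h1]
  have h2 := PLocal.ThompsonJA.map_centerThompsonAOf τ hτ (⊤ : Subgroup S)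
  rw [← MonoidHom.range_eq_map] at h2
  exact h2

/-- the alternative for one pushing-up group -/
theorem central_or_real (hJ : (Cfsg.thompsonSubgroupA S ⊓
    centralizer (Cfsg.thompsonSubgroupA S : Set S) : Subgroup S) ≤ center S)
    {G : Type u} [Group G] [Finite G] (τ : S →* G) (hτ : Function.Injective τ)
    (hpu : Cfsg.IsPushingUpSituation p τ.range) :
    (center S).map τ ≤ center G ∨ ∃ q M, Core p q τ.range (Cfsg.pCore p G) M ∧
      Core.Nat' p q τ.range (Cfsg.pCore p G) M := by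
  obtain ⟨q, M, c⟩ := exists_core hpu
  by_cases hZ : (cen τ.range).Normal
  · left
    have h1 := c.center_of_normal hZ
    rwa [cen_range τ hτ] at h1
  · right
    have h1 : τ.range ≤ centralizer (Cfsg.centerThompsonAOf τ.range : Set G) := by
      rw [← zj_map τ hτ]
      rintro _ ⟨s, rfl⟩
      rw [mem_centralizer_iff]
      rintro _ ⟨z, hz, rfl⟩
      rw [← map_mul, ← map_mul, mem_center_iff.1 (hJ hz) s]
    obtain ⟨A, hA, hAT⟩ := exists_large_not_le c hZ h1
    exact ⟨q, M, c, c.nat hZ hA hAT⟩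

/-- **The pair.** -/
theorem core_pair (hS : IsPGroup p S) (hJ : (Cfsg.thompsonSubgroupA S ⊓
    centralizer (Cfsg.thompsonSubgroupA S : Set S) : Subgroup S) ≤ center S)
    (hZ : ∀ z ∈ center S, z ^ p = 1) (hS0 : S0 p (⊤ : Subgroup S) ≠ ⊥)
    (hD : StD.{u} p) (hE : StE.{u} p) (h6 : St6.{u} p) :
    ∃ S₁ S₂ : Subgroup S, S₁ ≠ ⊥ ∧ S₂ ≠ ⊥ ∧ S₁.Characteristic ∧ S₂.Characteristic ∧
      S₁ ≤ center S ∧ (∃ R : Subgroup S, R ≤ S₂ ∧ Cfsg.IsCentrallyLarge R) ∧
      ∀ (G : Type u) [Group G] [Finite G] (τ : S →* G), Function.Injective τ →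
        Cfsg.IsPushingUpSituation p τ.range → (S₁.map τ).Normal ∨ (S₂.map τ).Normal := by
  classical
  set Sx : Subgroup (Am S) := (la S).range with hSx
  have hinj := la_inj (S := S)
  have hcS : cen Sx = (center S).map (la S) := cen_range _ hinj
  have hS0x : S0 p Sx = (S0 p (⊤ : Subgroup S)).map (la S) := by
    rw [S0_map, ← MonoidHom.range_eq_map]
  have hpg : IsPGroup p Sx := hS.of_surjective (la S).rangeRestrict (la S).rangeRestrict_surjective
  have hZx : ∀ z ∈ cen Sx, z ^ p = 1 := by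
    rw [hcS]
    rintro _ ⟨z, hz, rfl⟩
    rw [← map_pow, hZ z hz, map_one]
  -- `S₀ ∩ Z(S) ≠ 1`
  have hnt : Nontrivial S := by
    by_contra h1
    rw [not_nontrivial_iff_subsingleton] at h1
    exact hS0 (Subsingleton.elim _ _)
  have hS0n : (S0 p (⊤ : Subgroup S)).Normal := by
    constructor
    intro x hx g
    have h1 : (S0 p (⊤ : Subgroup S)).map (MulAut.conj g).toMonoidHom = S0 p (⊤ : Subgroup S) := by
      rw [S0_map]
      congr 1
      exact Subgroup.map_top_of_surjective _ (MulAut.conj g).surjective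
    rw [← h1]
    exact ⟨x, hx, rfl⟩
  have hS0Z : S0 p (⊤ : Subgroup S) ⊓ center S ≠ ⊥ := by
    have h1 : Nontrivial (S0 p (⊤ : Subgroup S)) := (Subgroup.nontrivial_iff_ne_bot _).2 hS0
    exact inf_center_ne_bot hS hS0
  have hcSne : cen Sx ≠ ⊥ := by
    rw [hcS]
    intro h1
    apply hS0Z
    rw [Subgroup.map_eq_bot_iff_of_injective _ hinj] at h1
    rw [h1, inf_bot_eq]
  -- automorphisms
  have haut : ∀ α : S ≃* S, ∃ a ∈ normalizer (Sx : Set (Am S)), ∀ s, a * la S s * a⁻¹ = la S (α s) := by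
    intro α
    obtain ⟨a, ha⟩ := exists_aut S (Nat.card S).factorial α
    refine ⟨a, ?_, ha⟩
    rw [← cj_eq_iff_mem_normalizer]
    apply eq_of_le_of_card_le _ (by rw [card_cj])
    rintro _ ⟨_, ⟨s, rfl⟩, rfl⟩
    refine ⟨α s, ?_⟩
    rw [← ha s]
    rfl
  have hchar : ∀ R : Subgroup (Am S), R ≤ Sx → (∀ a ∈ normalizer (Sx : Set (Am S)), cj a R = R) →
      (R.comap (la S)).Characteristic := by
    intro R hR h1
    rw [Subgroup.characteristic_iff_le_comap]
    intro α s hs
    obtain ⟨a, ha, h2⟩ := haut α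
    rw [Subgroup.mem_comap] at hs ⊢
    rw [Subgroup.mem_comap]
    change la S (α s) ∈ R
    rw [← h2 s, ← h1 a ha, mem_cj]
    have e : a⁻¹ * (a * la S s * a⁻¹) * a = la S s := by group
    rwa [e]
  -- the types
  set F₀ : Set (Subgroup (Am S)) := {Y | (∃ M q, Real p Sx Y M (Qc Sx Y) q) ∧
    ¬ S0 p Sx ⊓ cen Sx ≤ cen Y} with hF₀
  -- the basic alternative
  have hbasic : ∀ (R K : Subgroup (Am S)), R ≤ cen Sx → R ≤ S0 p Sx → K ≤ Sx →
      (∀ Y ∈ F₀, R ≤ cen Y ∨ Y ≤ normalizer (K : Set (Am S))) →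
      ∀ (G : Type u) [Group G] [Finite G] (τ : S →* G), Function.Injective τ →
        Cfsg.IsPushingUpSituation p τ.range →
        ((R.comap (la S)).map τ).Normal ∨ ((K.comap (la S)).map τ).Normal := by
    intro R K hR1 hR2 hK hRK G _ _ τ hτ hpu
    obtain ⟨φ, hφ, hφτ⟩ := exists_emb τ hτ hpu
    have hRS : R ≤ Sx := hR1.trans (cen_le _)
    have hRm : ((R.comap (la S)).map τ).map φ = R := by
      rw [map_la hφτ]
      exact Subgroup.map_comap_eq_self hRS
    have hKm : ((K.comap (la S)).map τ).map φ = K := by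
      rw [map_la hφτ]
      exact Subgroup.map_comap_eq_self hK
    have hRc : R ≤ cen φ.range → ((R.comap (la S)).map τ).Normal := by
      intro h1
      rw [cen_range φ hφ, ← hRm, map_le_iff' φ hφ] at h1
      constructor
      intro x hx g
      rw [mem_center_iff.1 (h1 hx) g, mul_inv_cancel_right]
      exact hx
    have hKc : φ.range ≤ normalizer (K : Set (Am S)) → ((K.comap (la S)).map τ).Normal := by
      intro h1
      constructor
      intro x hx g
      rw [← mem_map_iff' φ hφ, hKm] at hx ⊢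
      have h2 := h1 ⟨g, rfl⟩
      rw [map_mul, map_mul, map_inv]
      exact (mem_normalizer_iff.1 h2 _).1 hx
    rcases central_or_real hJ τ hτ hpu with h1 | ⟨q, M, c, n⟩
    · left
      apply hRc
      refine hR1.trans ?_
      rw [hcS, cen_range φ hφ, ← map_la hφτ, map_le_iff' φ hφ]
      exact h1
    · have hτm : τ.range.map φ = Sx := by
        rw [MonoidHom.range_eq_map, map_la hφτ, ← MonoidHom.range_eq_map]
      have hQ : (Cfsg.pCore p G).map φ = Qc Sx φ.range := by
        rw [← hτm]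
        exact (Core.Qc_eq φ hφ c).symm
      have hreal : Real p Sx φ.range (M.map φ) (Qc Sx φ.range) q :=
        ⟨G, inferInstance, inferInstance, φ, _, _, M, hφ, hτm, hQ, rfl, rfl, hpu, c, n⟩
      by_cases h2 : S0 p Sx ⊓ cen Sx ≤ cen φ.range
      · left
        exact hRc ((le_inf hR2 hR1).trans h2)
      · rcases hRK φ.range ⟨⟨_, _, hreal⟩, h2⟩ with h3 | h3
        · exact Or.inl (hRc h3)
        · exact Or.inr (hKc h3)
  by_cases hne : F₀.Nonempty
  · -- choose the data
    have hch : ∀ Y : Subgroup (Am S), ∃ Mq : Subgroup (Am S) × ℕ, Y ∈ F₀ →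
        Real p Sx Y Mq.1 (Qc Sx Y) Mq.2 := by
      intro Y
      by_cases hY : Y ∈ F₀
      · obtain ⟨⟨M, q, h1⟩, -⟩ := hY
        exact ⟨(M, q), fun _ => h1⟩
      · exact ⟨(⊥, 0), fun h => absurd h hY⟩
    choose Mq hMq using hch
    have hS0a : ∀ a ∈ normalizer (Sx : Set (Am S)), cj a (S0 p Sx) = S0 p Sx := by
      intro a ha
      unfold cj
      rw [S0_map]
      congr 1
      exact cj_eq_of_mem_normalizer ha
    have hca : ∀ a ∈ normalizer (Sx : Set (Am S)), cj a (cen Sx) = cen Sx := by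
      intro a ha
      rw [cj_cen, cj_eq_of_mem_normalizer ha]
    have hpow : ∀ Y ∈ F₀, ∀ z ∈ cen (Qc Sx Y), z ^ p = 1 := by
      intro Y hY
      obtain ⟨G, _, _, φ, P, T, L, hφ, h1, h2, h3, h4, hpu, c, n⟩ := hMq Y hY
      rw [← h2, map_pow_cen φ hφ]
      apply pow_cen c n
      rw [← map_pow_cen φ hφ, h1]
      exact hZx
    obtain ⟨𝓕, R, K, h𝓕, ⟨hR1, hR2, hR3, hK1, hK2⟩, hR4, hK3, hR5, hK4, hK5, hK6⟩ := exists_RK (S := Sx) (S₀ := S0 p Sx)
      (F₀ := F₀) (M := fun Y => (Mq Y).1) (q := fun Y => (Mq Y).2)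
      (fun Y hY => (hMq Y hY).pu) (fun Y hY => (hMq Y hY).one_lt) hne (by
        rintro a ha Y ⟨⟨M, q, h1⟩, h2⟩
        refine ⟨⟨cj a M, q, ?_⟩, ?_⟩
        · have h3 := h1.tw ha
          rwa [cj_core ha] at h3
        · intro h3
          apply h2
          have h4 := cj_mono (g := a⁻¹) h3
          rw [cj_inf, hS0a _ (inv_mem ha), hca _ (inv_mem ha), ← cj_cen, cj_inv_cj] at h4
          exact h4) hS0a (by
        intro Y hY
        obtain ⟨G, _, _, φ, P, T, L, hφ, h1, h2, h3, h4, hpu, c, n⟩ := hMq Y hY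
        have hZP : ∀ z ∈ cen P, z ^ p = 1 := by
          rw [← map_pow_cen φ hφ, h1]
          exact hZx
        have h5 := hD G _ P T L c n hpu hZP (pow_cen c n hZP)
        intro h6
        apply h5
        · intro h7
          apply hY.2
          rw [← h1, ← h4, ← S0_map, ← map_cen φ hφ, cen_range φ hφ, ← inf_map' φ hφ,
            map_le_iff' φ hφ]
          exact h7
        · rw [← map_le_iff' φ hφ, inf_map' φ hφ, S0_map, map_commutator, map_cen φ hφ, h1, h2,
            ← cen_range φ hφ, h4]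
          exact h6) (by
        intro Y hY Y' hY'
        by_contra h1
        exact hY.2 (hE _ _ _ Sx Y _ _ Y' _ _ (hMq Y hY).pu (hMq Y' hY').pu hpg hZx (hpow Y hY)
          (hpow Y' hY') h1)) (by
        intro Y hY Y' hY' hpair
        have hr := hMq Y' hY'
        have hq : (Mq Y').2 = (Mq Y).2 := by
          have h1 := hr.pu.cardS
          have h2 := hpair.hH.cardS
          rw [h1] at h2
          exact Nat.eq_of_mul_eq_mul_right Nat.card_pos h2
        rw [hq] at hr
        exact hY.2 (h6 _ _ Sx Y _ _ Y' _ _ hpair (hMq Y hY) hr hpg hZx (hpow Y hY) (hpow Y' hY')))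
      hcSne
    have hRS : R ≤ Sx := hR1.trans (cen_le _)
    have hRK : ∀ Y ∈ F₀, R ≤ cen Y ∨ Y ≤ normalizer (K : Set (Am S)) := by
      intro Y hY
      by_cases h1 : Y ∈ 𝓕
      · exact Or.inr (hK4 Y h1)
      · exact Or.inl (hR5 Y hY h1)
    refine ⟨R.comap (la S), K.comap (la S), ?_, ?_, hchar R hRS hR4, hchar K hK1 hK3, ?_, ?_,
      hbasic R K hR1 hR2 hK1 hRK⟩
    · intro h1
      apply hR3
      rw [← Subgroup.map_comap_eq_self hRS, h1, Subgroup.map_bot]
    · intro h1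
      apply hK2
      rw [← Subgroup.map_comap_eq_self hK1, h1, Subgroup.map_bot]
    · rw [← map_le_iff' (la S) hinj, Subgroup.map_comap_eq_self hRS, ← hcS]
      exact hR1
    · obtain ⟨R₀, h1, h2⟩ := core_contains_mcl hK1 hK4 hK5 hK6
        (fun Y hY R hR => (hMq Y (h𝓕 hY)).mcl_case hR)
        (fun Y hY y hy R hR hRQ => (hMq Y (h𝓕 hY)).mcl_conj hR hRQ hy)
        (fun Y hY => (hMq Y (h𝓕 hY)).V_not_le)
      refine ⟨R₀.comap (la S), Subgroup.comap_mono h2, ?_⟩
      apply cl_of_clr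
      rw [← clr_map (la S) hinj, Subgroup.map_comap_eq_self (h2.trans hK1), ← MonoidHom.range_eq_map]
      exact h1.1
  · -- no types
    have hF : ∀ Y ∈ F₀, S0 p Sx ⊓ cen Sx ≤ cen Y ∨ Y ≤ normalizer (Sx : Set (Am S)) :=
      fun Y hY => absurd ⟨Y, hY⟩ hne
    have hRS : S0 p Sx ⊓ cen Sx ≤ Sx := inf_le_right.trans (cen_le _)
    refine ⟨(S0 p Sx ⊓ cen Sx).comap (la S), Sx.comap (la S), ?_, ?_, ?_, ?_, ?_, ?_,
      hbasic _ Sx inf_le_right inf_le_left le_rfl hF⟩
    · intro h1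
      have h2 : S0 p Sx ⊓ cen Sx = ⊥ := by
        rw [← Subgroup.map_comap_eq_self hRS, h1, Subgroup.map_bot]
      rw [hS0x, hcS, ← inf_map' _ hinj, Subgroup.map_eq_bot_iff_of_injective _ hinj] at h2
      exact hS0Z h2
    · intro h1
      have h2 : Sx.comap (la S) = ⊤ := by
        rw [eq_top_iff]
        intro s _
        exact ⟨s, rfl⟩
      rw [h2] at h1
      exact top_ne_bot h1
    · apply hchar _ hRS
      intro a ha
      have h1 : cj a (S0 p Sx) = S0 p Sx := by
        unfold cj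
        rw [S0_map]
        congr 1
        exact cj_eq_of_mem_normalizer ha
      rw [cj_inf, h1, cj_cen, cj_eq_of_mem_normalizer ha]
    · exact hchar _ le_rfl fun a ha => cj_eq_of_mem_normalizer ha
    · rw [← map_le_iff' (la S) hinj, Subgroup.map_comap_eq_self hRS, ← hcS]
      exact inf_le_right
    · obtain ⟨R₀, h1⟩ := H264.CD.exists_cent (G := S)
      exact ⟨R₀, fun s _ => ⟨s, rfl⟩, h1⟩

end main

end Cfsg.Agent.H259.GN
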