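import Cfsg.Agent.H260.Push3

/-!
# Uniform Glauberman–Niles: one rank-one group inside an ambient group

`PU S G M Q q`: the facts on a rank one pushing-up group `G` over the `p`-group `S` (inside an ambient
group), `Q = O_p(G)`, `V = Z(Q)`, `M` the maximal subgroup over `S`, `q = |S : Q|`.
-/

set_option autoImplicit false
set_option linter.unusedSectionVars false

namespace Cfsg.Agent.H259.GN

open Subgroup
open Cfsg.Agent.H260.Push
open scoped commutatorElement

variable {X : Type*} [Group X]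

/-- elementwise commuting -/
def Cm (A B : Subgroup X) : Prop := ∀ a ∈ A, ∀ b ∈ B, a * b = b * a

theorem Cm.symm {A B : Subgroup X} (h : Cm A B) : Cm B A := fun b hb a ha => (h a ha b hb).symm

theorem cm_iff {A B : Subgroup X} : Cm A B ↔ A ≤ centralizer (B : Set X) := by
  constructor
  · intro h a ha b hb
    exact (h a ha b hb).symm
  · intro h a ha b hb
    exact (h ha b hb).symm

theorem Cm.mono {A B A' B' : Subgroup X} (h : Cm A B) (hA : A' ≤ A) (hB : B' ≤ B) : Cm A' B' :=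
  fun a ha b hb => h a (hA ha) b (hB hb)

theorem Cm.cj {A B : Subgroup X} (h : Cm A B) (g : X) : Cm (cj g A) (cj g B) := by
  intro a ha b hb
  rw [mem_cj] at ha hb
  have h1 := h _ ha _ hb
  have e1 : g * (g⁻¹ * a * g * (g⁻¹ * b * g)) * g⁻¹ = a * b := by group
  have e2 : g * (g⁻¹ * b * g * (g⁻¹ * a * g)) * g⁻¹ = b * a := by group
  rw [← e1, ← e2, h1]

theorem cm_cj_iff {A B : Subgroup X} (g : X) : Cm (H260.Push.cj g A) (H260.Push.cj g B) ↔ Cm A B := by
  constructor
  · intro h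
    have := h.cj g⁻¹
    rwa [cj_inv_cj, cj_inv_cj] at this
  · exact fun h => h.cj g

theorem Cm.sup_right {A B C : Subgroup X} (h1 : Cm A B) (h2 : Cm A C) : Cm A (B ⊔ C) := by
  rw [cm_iff, le_centralizer_iff] at *
  exact sup_le h1 h2

theorem Cm.sup_left {A B C : Subgroup X} (h1 : Cm A C) (h2 : Cm B C) : Cm (A ⊔ B) C :=
  (h1.symm.sup_right h2.symm).symm

theorem cj_eq_of_mem_normalizer {g : X} {H : Subgroup X} (h : g ∈ normalizer (H : Set X)) :
    cj g H = H := cj_eq_iff_mem_normalizer.2 h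

theorem cj_eq_self {g : X} {H : Subgroup X} (h : g ∈ H) : cj g H = H :=
  cj_eq_of_mem_normalizer (le_normalizer h)

theorem cj_commutator (g : X) (A B : Subgroup X) : cj g ⁅A, B⁆ = ⁅cj g A, cj g B⁆ :=
  map_commutator _ _ _

theorem mem_normalizer_commutator' {A B : Subgroup X} {g : X} (hA : g ∈ normalizer (A : Set X))
    (hB : g ∈ normalizer (B : Set X)) : g ∈ normalizer ((⁅A, B⁆ : Subgroup X) : Set X) := by
  rw [← cj_eq_iff_mem_normalizer] at hA hB ⊢
  rw [cj_commutator, hA, hB]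

theorem mem_normalizer_sup' {A B : Subgroup X} {g : X} (hA : g ∈ normalizer (A : Set X))
    (hB : g ∈ normalizer (B : Set X)) : g ∈ normalizer ((A ⊔ B : Subgroup X) : Set X) := by
  rw [← cj_eq_iff_mem_normalizer] at hA hB ⊢
  rw [cj_sup, hA, hB]

theorem mem_cen {H : Subgroup X} {x : X} : x ∈ cen H ↔ x ∈ H ∧ ∀ y ∈ H, y * x = x * y := by
  unfold cen
  rw [mem_inf, mem_centralizer_iff]
  rfl

theorem commutator_eq_bot_iff' {A B : Subgroup X} : ⁅A, B⁆ = ⊥ ↔ Cm A B := by
  rw [cm_iff]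
  exact Subgroup.commutator_eq_bot_iff_le_centralizer

/-- The facts on a rank one pushing-up group. -/
structure PU (S G M Q : Subgroup X) (q : ℕ) : Prop where
  SG : S ≤ G
  gen : ∀ g ∈ G, g ∉ M → S ⊔ cj g S = G
  exM : ∃ g ∈ G, g ∉ M
  ti : ∀ g ∈ G, g ∉ M → ∀ s ∈ S, s ∉ Q → g⁻¹ * s * g ∉ M
  QS : Q ≤ S
  Qn : G ≤ normalizer (Q : Set X)
  ZV : cen S ≤ cen Q
  cardV : Nat.card (cen Q) = q * Nat.card (cen S)
  cardS : Nat.card S = q * Nat.card Q
  centV : S ⊓ centralizer (cen Q : Set X) = Q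
  fix : ∀ s ∈ S, s ∉ Q → ∀ y ∈ cen Q, s * y = y * s → y ∈ cen S
  cmc : ∀ s ∈ S, s ∉ Q → ∀ y ∈ cen Q, cm y s ∈ cen G → y ∈ cen S
  quad : ∀ y ∈ cen Q, ∀ s ∈ S, cm y s ∈ cen S
  cenG : cen G ≤ cen S

/-- `[V, S]` -/
def DD (S Q : Subgroup X) : Subgroup X := ⁅cen Q, S⁆

namespace PU

variable {S G M Q : Subgroup X} {q : ℕ} (h : PU S G M Q q)
include h

theorem QG : Q ≤ G := h.QS.trans h.SG

theorem cjQ {g : X} (hg : g ∈ G) : cj g Q = Q := cj_eq_of_mem_normalizer (h.Qn hg)

theorem cjV {g : X} (hg : g ∈ G) : cj g (cen Q) = cen Q := by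
  rw [cj_cen, h.cjQ hg]

theorem Vn : G ≤ normalizer (cen Q : Set X) := fun _ hg =>
  cj_eq_iff_mem_normalizer.1 (h.cjV hg)

theorem inv_notMem {g : X} (hg : g ∉ M) : g⁻¹ ∉ M := fun h1 => hg (by simpa using M.inv_mem h1)

theorem SVn : S ≤ normalizer (cen Q : Set X) := h.SG.trans h.Vn

theorem VS : cen Q ≤ S := (cen_le Q).trans h.QS

theorem cm_VQ : Cm (cen Q) Q := fun _ ha _ hb => (cen_comm ha hb).symm

theorem DZ : DD S Q ≤ cen S := by
  unfold DD
  rw [commutator_le]
  intro y hy s hs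
  have h1 := h.quad y hy s hs
  have e : ⁅y, s⁆ = (cm y s)⁻¹ := by
    unfold cm
    rw [commutatorElement_def]; group
  rw [e]
  exact inv_mem h1

theorem DV : DD S Q ≤ cen Q := h.DZ.trans h.ZV

theorem le_Q_of_cm {B : Subgroup X} (hB : B ≤ S) (hc : Cm (cen Q) B) : B ≤ Q := by
  rw [← h.centV]
  exact le_inf hB (cm_iff.1 hc.symm)

/-- a `G`-invariant subgroup of `Z(S)` is central in `G` -/
theorem le_cenG {N : Subgroup X} (hN : N ≤ cen S) (hn : G ≤ normalizer (N : Set X)) : N ≤ cen G := by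
  obtain ⟨g, hg, hgM⟩ := h.exM
  have h1 : Cm S N := fun s hs x hx => cen_comm (hN hx) hs
  have h2 : Cm (cj g S) N := by
    have := h1.cj g
    rwa [cj_eq_of_mem_normalizer (hn hg)] at this
  have h3 := h1.sup_left h2
  rw [h.gen g hg hgM] at h3
  intro x hx
  rw [mem_cen]
  exact ⟨h.SG (cen_le S (hN hx)), fun y hy => h3 y hy x hx⟩

/-- an element centralized by `S` and by an opposite conjugate is central in `G` -/
theorem mem_cenG_of_two {g x : X} (hg : g ∈ G) (hgM : g ∉ M) (hx : x ∈ cen S)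
    (hxg : ∀ s ∈ cj g S, s * x = x * s) : x ∈ cen G := by
  rw [mem_cen]
  refine ⟨h.SG (cen_le S hx), ?_⟩
  have h1 : S ≤ centralizer {x} := by
    intro s hs
    rw [mem_centralizer_singleton_iff]
    exact cen_comm hx hs
  have h2 : cj g S ≤ centralizer {x} := by
    intro s hs
    rw [mem_centralizer_singleton_iff]
    exact hxg s hs
  have h3 := sup_le h1 h2
  rw [h.gen g hg hgM] at h3
  intro y hy
  exact mem_centralizer_singleton_iff.1 (h3 hy)

theorem cenG_norm {g : X} (hg : g ∈ G) {N : Subgroup X} (hN : N ≤ cen G) : cj g N = N := by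
  apply cj_eq_of_mem_normalizer
  rw [mem_normalizer_iff]
  intro x
  have key : ∀ x ∈ N, g * x * g⁻¹ = x := by
    intro x hx
    have := cen_comm (hN hx) hg
    rw [this]; group
  constructor
  · intro hx
    rw [key x hx]
    exact hx
  · intro hx
    have h1 : g⁻¹ * (g * x * g⁻¹) * g ∈ N := by
      have h2 : g⁻¹ * (g * x * g⁻¹) * g = g * x * g⁻¹ := by
        have := cen_comm (hN hx) (inv_mem hg)
        rw [this]; group
      rw [h2]
      exact hx
    have h3 : g⁻¹ * (g * x * g⁻¹) * g = x := by group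
    rwa [h3] at h1

theorem exists_notMem_Q [Finite X] (hq : 1 < q) : ∃ s ∈ S, s ∉ Q := by
  by_contra hcon
  push Not at hcon
  have h1 : S = Q := le_antisymm hcon h.QS
  have h2 := h.cardS
  rw [h1] at h2
  have h3 : 0 < Nat.card Q := Nat.card_pos
  nlinarith

theorem D_not_le [Finite X] (hq : 1 < q) : ¬ DD S Q ≤ cen G := by
  intro hD
  obtain ⟨s, hs, hsQ⟩ := h.exists_notMem_Q hq
  have h1 : cen Q ≤ cen S := by
    intro y hy
    apply h.cmc s hs hsQ y hy
    have h2 : ⁅y, s⁆ ∈ cen G := hD (commutator_mem_commutator hy hs)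
    have e : cm y s = ⁅y, s⁆⁻¹ := by
      unfold cm
      rw [commutatorElement_def]; group
    rw [e]
    exact inv_mem h2
  have h2 := h.cardV
  rw [le_antisymm h1 h.ZV] at h2
  have h3 : 0 < Nat.card (cen S) := Nat.card_pos
  nlinarith

end PU

end Cfsg.Agent.H259.GN
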