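import Cfsg.Agent.H259.GN1

/-!
# Uniform Glauberman–Niles: paths, critical triples, the dichotomy
-/

set_option autoImplicit false
set_option linter.unusedSectionVars false

namespace Cfsg.Agent.H259.GN

open Subgroup
open Cfsg.Agent.H260.Push
open scoped commutatorElement

variable {X : Type*} [Group X] {ι : Type*}

/-! ### Paths -/

/-- the product of a path -/
def pr (L : List (ι × X)) : X := (L.map Prod.snd).prod

/-- valid paths -/
def Val (G : ι → Subgroup X) (L : List (ι × X)) : Prop := ∀ x ∈ L, x.2 ∈ G x.1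

/-- the reversed path -/
def rv (L : List (ι × X)) : List (ι × X) := (L.map fun x => (x.1, x.2⁻¹)).reverse

@[simp] theorem pr_nil : pr ([] : List (ι × X)) = 1 := rfl

@[simp] theorem pr_cons (x : ι × X) (L : List (ι × X)) : pr (x :: L) = x.2 * pr L := by
  simp [pr]

@[simp] theorem pr_append (L L' : List (ι × X)) : pr (L ++ L') = pr L * pr L' := by
  simp [pr]

theorem pr_rv (L : List (ι × X)) : pr (rv L) = (pr L)⁻¹ := by
  induction L with
  | nil => simp [rv]
  | cons x L ih =>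
    have : rv (x :: L) = rv L ++ [(x.1, x.2⁻¹)] := by simp [rv]
    rw [this, pr_append, ih]
    simp

theorem length_rv (L : List (ι × X)) : (rv L).length = L.length := by simp [rv]

theorem Val.rv {G : ι → Subgroup X} {L : List (ι × X)} (h : Val G L) : Val G (rv L) := by
  intro x hx
  simp only [GN.rv, List.mem_reverse, List.mem_map] at hx
  obtain ⟨y, hy, rfl⟩ := hx
  exact inv_mem (h y hy)

theorem Val.append {G : ι → Subgroup X} {L L' : List (ι × X)} (h : Val G L) (h' : Val G L') :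
    Val G (L ++ L') := by
  intro x hx
  rcases List.mem_append.1 hx with hx | hx
  · exact h x hx
  · exact h' x hx

theorem Val.cons {G : ι → Subgroup X} {L : List (ι × X)} {c : ι} {g : X} (hg : g ∈ G c)
    (h : Val G L) : Val G ((c, g) :: L) := by
  intro x hx
  rcases List.mem_cons.1 hx with rfl | hx
  · exact hg
  · exact h x hx

theorem Val.left {G : ι → Subgroup X} {L L' : List (ι × X)} (h : Val G (L ++ L')) : Val G L :=
  fun x hx => h x (List.mem_append_left _ hx)

theorem Val.right {G : ι → Subgroup X} {L L' : List (ι × X)} (h : Val G (L ++ L')) : Val G L' :=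
  fun x hx => h x (List.mem_append_right _ hx)

theorem Val.tail {G : ι → Subgroup X} {L : List (ι × X)} {x : ι × X} (h : Val G (x :: L)) :
    Val G L := fun y hy => h y (List.mem_cons_of_mem _ hy)

theorem Val.head {G : ι → Subgroup X} {L : List (ι × X)} {x : ι × X} (h : Val G (x :: L)) :
    x.2 ∈ G x.1 := h x List.mem_cons_self

section Fam

variable [Finite X] {S : Subgroup X} {G M Q : ι → Subgroup X} {q : ι → ℕ}

/-- all pairs at distance less than `n + 1` commute -/
def Far (G Q : ι → Subgroup X) (n : ℕ) : Prop :=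
  ∀ L, Val G L → L.length < n → ∀ i j, Cm (cen (Q i)) (cj (pr L) (cen (Q j)))

/-- critical triple -/
structure Crit (G Q : ι → Subgroup X) (n : ℕ) (i : ι) (L : List (ι × X)) (j : ι) : Prop where
  val : Val G L
  len : L.length = n
  ne : ¬ Cm (cen (Q i)) (cj (pr L) (cen (Q j)))

variable (h : ∀ i, PU S (G i) (M i) (Q i) (q i)) {n : ℕ} (hF : Far G Q n)
include h hF

theorem le_Q {L : List (ι × X)} (hL : Val G L) (hn : L.length < n) (i j : ι) :
    cj (pr L) (cen (Q j)) ≤ Q i := by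
  induction L generalizing i with
  | nil =>
    rw [pr_nil, cj_one]
    have := hF [] (by intro x hx; simp at hx) hn i j
    rw [pr_nil, cj_one] at this
    exact (h i).le_Q_of_cm (h j).VS this
  | cons x L ih =>
    have h1 := ih hL.tail (by simp at hn; omega) x.1
    have h2 : cj (pr (x :: L)) (cen (Q j)) ≤ Q x.1 := by
      rw [pr_cons, ← cj_mul]
      have := cj_mono (g := x.2) h1
      rwa [(h x.1).cjQ hL.head] at this
    exact (h i).le_Q_of_cm (h2.trans (h x.1).QS) (hF _ hL hn i j)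

theorem le_S {L : List (ι × X)} (hL : Val G L) (hn : L.length ≤ n) (j : ι) :
    cj (pr L) (cen (Q j)) ≤ S := by
  cases L with
  | nil =>
    rw [pr_nil, cj_one]
    exact (h j).VS
  | cons x L =>
    have h1 := le_Q h hF hL.tail (by simp at hn; omega) x.1 j
    rw [pr_cons, ← cj_mul]
    have := cj_mono (g := x.2) h1
    rw [(h x.1).cjQ hL.head] at this
    exact this.trans (h x.1).QS

theorem le_cjS {L : List (ι × X)} (hL : Val G L) (hn : L.length ≤ n) (i : ι) :
    cen (Q i) ≤ cj (pr L) S := by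
  have h1 := le_S h hF hL.rv (by rw [length_rv]; exact hn) i
  have h2 := cj_mono (g := pr L) h1
  rw [cj_mul, pr_rv, mul_inv_cancel, cj_one] at h2
  exact h2

omit h hF in
theorem Crit.symm {i j : ι} {L : List (ι × X)} (hc : Crit G Q n i L j) : Crit G Q n j (rv L) i := by
  refine ⟨hc.val.rv, by rw [length_rv, hc.len], ?_⟩
  intro h1
  apply hc.ne
  have h2 := h1.cj (pr L)
  rw [cj_mul, pr_rv, mul_inv_cancel, cj_one] at h2
  exact h2.symm

section crit

variable {i j : ι} {L : List (ι × X)} (hc : Crit G Q n i L j)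
include hc

theorem crit_le_S : cj (pr L) (cen (Q j)) ≤ S := le_S h hF hc.val hc.len.le j

theorem crit_le_cjS : cen (Q i) ≤ cj (pr L) S := le_cjS h hF hc.val hc.len.le i

theorem crit_inf : cj (pr L) (cen (Q j)) ⊓ Q i = cj (pr L) (cen S) := by
  have hV := crit_le_cjS h hF hc
  apply le_antisymm
  · -- pick `v ∈ V i` outside `cj w (Q j)`
    have h1 : ¬ cen (Q i) ≤ cj (pr L) (Q j) := by
      intro h1
      apply hc.ne
      have h2 : Cm (cj (pr L) (cen (Q j))) (cj (pr L) (Q j)) := (h j).cm_VQ.cj _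
      exact (h2.mono le_rfl h1).symm
    obtain ⟨v, hv, hvQ⟩ := SetLike.not_le_iff_exists.1 h1
    intro b hb
    have hvb : v * b = b * v := (h i).cm_VQ v hv b hb.2
    rw [mem_cj]
    have hv' := hV hv
    rw [mem_cj] at hv' hvQ
    have hb' : b ∈ cj (pr L) (cen (Q j)) := hb.1
    rw [mem_cj] at hb'
    refine (h j).fix _ hv' hvQ _ hb' ?_
    have e1 : (pr L)⁻¹ * v * pr L * ((pr L)⁻¹ * b * pr L) = (pr L)⁻¹ * (v * b) * pr L := by group
    have e2 : (pr L)⁻¹ * b * pr L * ((pr L)⁻¹ * v * pr L) = (pr L)⁻¹ * (b * v) * pr L := by group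
    rw [e1, e2, hvb]
  · apply le_inf
    · exact cj_mono (h j).ZV
    · apply (h i).le_Q_of_cm
      · exact (cj_mono (h j).ZV).trans (crit_le_S h hF hc)
      · have h2 : Cm (cj (pr L) S) (cj (pr L) (cen S)) :=
          Cm.cj (fun s hs z hz => cen_comm hz hs) _
        exact h2.mono hV le_rfl

theorem crit_q_le : q j ≤ q i := by
  have h1 := crit_inf h hF hc
  have hBS := crit_le_S h hF hc
  have h2 : cj (pr L) (cen (Q j)) ≤ normalizer (Q i : Set X) :=
    hBS.trans ((h i).SG.trans (h i).Qn)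
  have h3 := card_mul_eq h2
  rw [h1, card_cj, card_cj, (h j).cardV] at h3
  have h4 : Nat.card (cj (pr L) (cen (Q j)) ⊔ Q i : Subgroup X) ≤ Nat.card S :=
    Nat.card_mono (Set.toFinite _) (sup_le hBS (h i).QS)
  have hp1 : 0 < Nat.card (cen S) := Nat.card_pos
  have hp2 : 0 < Nat.card (Q i) := Nat.card_pos
  rw [(h i).cardS] at h4
  have h5 : q j * Nat.card (cen S) * Nat.card (Q i) ≤ q i * Nat.card (Q i) * Nat.card (cen S) := by
    rw [← h3]
    gcongr
  have h6 : q j * (Nat.card (cen S) * Nat.card (Q i)) ≤ q i * (Nat.card (cen S) * Nat.card (Q i)) := by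
    calc _ = q j * Nat.card (cen S) * Nat.card (Q i) := by ring
      _ ≤ _ := h5
      _ = _ := by ring
  exact Nat.le_of_mul_le_mul_right h6 (by positivity)

theorem crit_q : q i = q j :=
  le_antisymm (crit_q_le h hF hc.symm) (crit_q_le h hF hc)

theorem crit_sup : cj (pr L) (cen (Q j)) ⊔ Q i = S := by
  have h1 := crit_inf h hF hc
  have hBS := crit_le_S h hF hc
  have h2 : cj (pr L) (cen (Q j)) ≤ normalizer (Q i : Set X) :=
    hBS.trans ((h i).SG.trans (h i).Qn)
  have h3 := card_mul_eq h2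
  rw [h1, card_cj, card_cj, (h j).cardV, ← crit_q h hF hc] at h3
  have hp1 : 0 < Nat.card (cen S) := Nat.card_pos
  apply eq_of_le_of_card_le (sup_le hBS (h i).QS)
  rw [(h i).cardS]
  have h6 : Nat.card (cj (pr L) (cen (Q j)) ⊔ Q i : Subgroup X) * Nat.card (cen S) =
      (q i * Nat.card (Q i)) * Nat.card (cen S) := by
    rw [h3]; ring
  exact (Nat.eq_of_mul_eq_mul_right hp1 h6).ge

/-- `V_i` and the conjugate of `Q_j` generate the Sylow at the other end -/
theorem crit_sup' : cen (Q i) ⊔ cj (pr L) (Q j) = cj (pr L) S := by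
  have h1 := crit_sup h hF hc.symm
  have h2 := congrArg (cj (pr L)) h1
  rw [cj_sup, cj_mul, pr_rv, mul_inv_cancel, cj_one] at h2
  exact h2

omit hF h hc [Finite X] in
/-- commutators with a product `b c`, `c` centralizing -/
theorem comm_le_of_mul {V B C T : Subgroup X} (hT : ∀ s ∈ T, ∃ b ∈ B, ∃ c ∈ C, b * c = s)
    (hVC : Cm V C) : ⁅V, T⁆ ≤ ⁅V, B⁆ := by
  rw [commutator_le]
  intro v hv s hs
  obtain ⟨b, hb, c, hc, rfl⟩ := hT s hs
  have h3 : v * c = c * v := hVC v hv c hc
  have h4 : c * v⁻¹ * c⁻¹ = v⁻¹ := by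
    have : c * v⁻¹ = v⁻¹ * c := by
      have h5 : v⁻¹ * (v * c) * v⁻¹ = v⁻¹ * (c * v) * v⁻¹ := by rw [h3]
      have e1 : v⁻¹ * (v * c) * v⁻¹ = c * v⁻¹ := by group
      have e2 : v⁻¹ * (c * v) * v⁻¹ = v⁻¹ * c := by group
      rw [e1, e2] at h5
      exact h5
    rw [this]; group
  have e : ⁅v, b * c⁆ = ⁅v, b⁆ := by
    rw [commutatorElement_def, commutatorElement_def]
    calc v * (b * c) * v⁻¹ * (b * c)⁻¹ = v * b * (c * v⁻¹ * c⁻¹) * b⁻¹ := by group
      _ = v * b * v⁻¹ * b⁻¹ := by rw [h4]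
  rw [e]
  exact commutator_mem_commutator hv hb

omit hF h hc [Finite X] in
theorem mul_of_sup {B C : Subgroup X} (hC : B ≤ normalizer (C : Set X)) :
    ∀ s ∈ B ⊔ C, ∃ b ∈ B, ∃ c ∈ C, b * c = s := by
  intro s hs
  have h1 := coe_mul_of_left_le_normalizer_right B C hC
  have h2 : s ∈ ((B ⊔ C : Subgroup X) : Set X) := hs
  rw [h1] at h2
  exact h2

omit hF h hc [Finite X] in
theorem mul_of_sup' {B C : Subgroup X} (hC : C ≤ normalizer (B : Set X)) :
    ∀ s ∈ B ⊔ C, ∃ b ∈ B, ∃ c ∈ C, b * c = s := by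
  intro s hs
  have h1 := coe_mul_of_right_le_normalizer_left B C hC
  have h2 : s ∈ ((B ⊔ C : Subgroup X) : Set X) := hs
  rw [h1] at h2
  exact h2

theorem crit_D : ⁅cen (Q i), cj (pr L) (cen (Q j))⁆ = DD S (Q i) := by
  apply le_antisymm
  · exact commutator_mono le_rfl (crit_le_S h hF hc)
  · unfold DD
    apply comm_le_of_mul (C := Q i) _ (h i).cm_VQ
    intro s hs
    rw [← crit_sup h hF hc] at hs
    exact mul_of_sup ((crit_le_S h hF hc).trans ((h i).SG.trans (h i).Qn)) s hs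

theorem crit_D' : cj (pr L) (DD S (Q j)) = DD S (Q i) := by
  rw [← crit_D h hF hc, ← crit_D h hF hc.symm, cj_commutator, cj_mul, pr_rv, mul_inv_cancel,
    cj_one, commutator_comm]

end crit

/-! ### Extension and dichotomy -/

omit h hF in
theorem le_normalizer_of_cj_le {N B : Subgroup X} (hB : ∀ b ∈ B, cj b N ≤ N) :
    B ≤ normalizer (N : Set X) := by
  intro b hb
  rw [← cj_eq_iff_mem_normalizer]
  apply eq_of_le_of_card_le (hB b hb)
  rw [card_cj]

section ext

variable {i j c : ι} {L : List (ι × X)} {g a : X}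

theorem cm_basic (hn : 0 < n) (i j : ι) : Cm (cen (Q i)) (cen (Q j)) := by
  have := hF [] (by intro x hx; simp at hx) hn i j
  rwa [pr_nil, cj_one] at this

theorem VQ (hn : 0 < n) (i j : ι) : cen (Q j) ≤ Q i :=
  (h i).le_Q_of_cm (h j).VS (cm_basic h hF hn i j)

omit h hF [Finite X] in
theorem crit_ext (hc : Crit G Q n i (L ++ [(c, g)]) j) (ha : a ∈ G i) {k : ι}
    (hk : ¬ Cm (cj a (cen (Q k))) (cj (pr L) (cen (Q c)))) : Crit G Q n k ((i, a⁻¹) :: L) c := by
  refine ⟨hc.val.left.cons (inv_mem ha), ?_, ?_⟩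
  · rw [← hc.len]; simp
  · intro h1
    apply hk
    have h2 := h1.cj a
    rw [cj_mul, pr_cons] at h2
    have e : a * ((i, a⁻¹).2 * pr L) = pr L := by
      change a * (a⁻¹ * pr L) = pr L
      group
    rwa [e] at h2

variable (hn : 0 < n) (hc : Crit G Q n i (L ++ [(c, g)]) j)
include hn hc

omit hF hn in
theorem gc : g ∈ G c := hc.val (c, g) (by simp)

omit h hF hn [Finite X] in
theorem lenL : L.length + 1 = n := by
  rw [← hc.len]; simp

omit hF hn in
theorem cj_c : cj (pr L) (cen (Q c)) = cj (pr (L ++ [(c, g)])) (cen (Q c)) := by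
  rw [pr_append, ← cj_mul]
  congr 1
  have : pr [(c, g)] = g := by simp
  rw [this, (h c).cjV (gc h hc)]

omit hF hn in
theorem cj_Qc : cj (pr L) (Q c) = cj (pr (L ++ [(c, g)])) (Q c) := by
  rw [pr_append, ← cj_mul]
  congr 1
  have : pr [(c, g)] = g := by simp
  rw [this, (h c).cjQ (gc h hc)]

/-- case (i'): the new triple is critical -/
theorem D_le_of_ext (ha : a ∈ G i) (haM : a ∉ M i) {k : ι}
    (hk : ¬ Cm (cj a (cen (Q k))) (cj (pr L) (cen (Q c)))) : DD S (Q k) ≤ cen (G i) := by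
  have hc' := crit_ext hc ha hk
  have hD := crit_D' h hF hc'
  have hD' : cj a (DD S (Q k)) = cj (pr L) (DD S (Q c)) := by
    rw [← hD, cj_mul, pr_cons]
    congr 1
    change a * (a⁻¹ * pr L) = pr L
    group
  have h1 : cj a (DD S (Q k)) ≤ cj a (cen S) := cj_mono (h k).DZ
  have h2 : cj a (DD S (Q k)) ≤ cen (Q i) := by
    refine h1.trans ?_
    have := cj_mono (g := a) (h i).ZV
    rwa [(h i).cjV ha] at this
  have h3 : Cm (cj a (DD S (Q k))) (cj (pr (L ++ [(c, g)])) (cen (Q j))) := by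
    rw [hD']
    have h4 : Cm (cj (pr (L ++ [(c, g)])) (cen (Q c))) (cj (pr (L ++ [(c, g)])) (cen (Q j))) :=
      (cm_basic h hF hn c j).cj _
    rw [← cj_c h hc] at h4
    exact h4.mono (cj_mono (h c).DV) le_rfl
  have h5 : Cm (cj a (DD S (Q k))) S := by
    have h8 := h3.sup_right ((h i).cm_VQ.mono h2 le_rfl)
    rwa [crit_sup h hF hc] at h8
  have h6 : cj a (DD S (Q k)) ≤ cen (G i) := by
    intro x hx
    apply (h i).mem_cenG_of_two ha haM
    · rw [mem_cen]
      exact ⟨(h i).VS (h2 hx), fun y hy => (h5 x hx y hy).symm⟩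
    · intro s hs
      have h7 : Cm (cj a S) (cj a (cen S)) := Cm.cj (fun s hs z hz => cen_comm hz hs) _
      exact h7 s hs x (h1 hx)
  have h7 := (h i).cenG_norm (inv_mem ha) h6
  rw [cj_inv_cj] at h7
  rw [h7]
  exact h6

theorem not_normal_of_ext (ha : a ∈ G i) {k : ι}
    (hk : ¬ Cm (cj a (cen (Q k))) (cj (pr L) (cen (Q c)))) :
    ¬ G i ≤ normalizer ((cen (Q k) ⊔ cen (Q i) : Subgroup X) : Set X) := by
  intro hN
  apply hk
  have h1 : cj a (cen (Q k)) ≤ cen (Q k) ⊔ cen (Q i) := by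
    have := cj_mono (g := a) (le_sup_left : cen (Q k) ≤ cen (Q k) ⊔ cen (Q i))
    rwa [cj_eq_of_mem_normalizer (hN ha)] at this
  have hL := lenL hc
  have h2 : Cm (cen (Q k) ⊔ cen (Q i)) (cj (pr L) (cen (Q c))) :=
    (hF L hc.val.left (by omega) k c).sup_left (hF L hc.val.left (by omega) i c)
  exact h2.mono h1 le_rfl

/-- case (ii'): `V_k V_i` is normal in `G_i` -/
theorem normal_of_cm (ha : a ∈ G i) (haM : a ∉ M i) {k : ι}
    (hk : Cm (cj a (cen (Q k))) (cj (pr L) (cen (Q c)))) :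
    G i ≤ normalizer ((cen (Q k) ⊔ cen (Q i) : Subgroup X) : Set X) := by
  have hL := lenL hc
  set w := pr (L ++ [(c, g)]) with hw
  -- `cj a (V k) ≤ cj w S`
  have h1 : cj a (cen (Q k)) ≤ cj (pr L) S := by
    have h2 := le_cjS h hF (L := (i, a⁻¹) :: L) (hc.val.left.cons (inv_mem ha))
      (by simp; omega) k
    have h3 := cj_mono (g := a) h2
    rw [cj_mul, pr_cons] at h3
    have e : a * ((i, a⁻¹).2 * pr L) = pr L := by
      change a * (a⁻¹ * pr L) = pr L
      group
    rwa [e] at h3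
  have h2 : cj a (cen (Q k)) ≤ cj w S := by
    have h3 : cj a (cen (Q k)) ≤ cj (pr L) (Q c) := by
      rw [← (h c).centV, cj_inf, cj_centralizer]
      exact le_inf h1 (cm_iff.1 hk)
    refine h3.trans ?_
    rw [cj_Qc h hc]
    exact cj_mono (h c).QS
  set B := cj w (cen (Q j)) with hB
  have hBS : B ≤ S := crit_le_S h hF hc
  have hBV : B ≤ normalizer (cen (Q i) : Set X) := hBS.trans (h i).SVn
  have hkS : ∀ y ∈ cj a (cen (Q k)), ∀ b ∈ B, b * y * b⁻¹ * y⁻¹ ∈ cen (Q i) := by
    intro y hy b hb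
    have h3 := h2 hy
    rw [← crit_sup' h hF hc] at h3
    have hn1 : cen (Q i) ≤ normalizer (cj w (Q j) : Set X) := by
      have h4 := crit_le_cjS h hF hc
      have h5 : cj w S ≤ normalizer (cj w (Q j) : Set X) := by
        intro x hx
        rw [← cj_eq_iff_mem_normalizer]
        rw [mem_cj] at hx
        have h6 := (h j).cjQ ((h j).SG hx)
        rw [← cj_mul, ← cj_mul] at h6
        have h7 := congrArg (cj w) h6
        rw [cj_mul, mul_inv_cancel, cj_one] at h7
        exact h7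
      exact h4.trans h5
    obtain ⟨v, hv, r, hr, rfl⟩ := mul_of_sup hn1 y h3
    have h4 : Cm (cj w (cen (Q j))) (cj w (Q j)) := (h j).cm_VQ.cj _
    have h5 : b * r = r * b := h4 b hb r hr
    have e : b * (v * r) * b⁻¹ * (v * r)⁻¹ = b * v * b⁻¹ * v⁻¹ := by
      calc b * (v * r) * b⁻¹ * (v * r)⁻¹ = b * v * b⁻¹ * (b * r) * b⁻¹ * r⁻¹ * v⁻¹ := by group
        _ = b * v * b⁻¹ * (r * b) * b⁻¹ * r⁻¹ * v⁻¹ := by rw [h5]
        _ = _ := by group
    rw [e]
    exact mul_mem ((mem_normalizer_iff.1 (hBV hb) v).1 hv) (inv_mem hv)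
  have hSV : ∀ k, S ≤ normalizer (cen (Q k) : Set X) := fun k => (h k).SVn
  have hcjS : cj a S ≤ normalizer (cj a (cen (Q k)) : Set X) := by
    intro x hx
    rw [← cj_eq_iff_mem_normalizer]
    rw [mem_cj] at hx
    have h6 := cj_eq_of_mem_normalizer (hSV k hx)
    rw [← cj_mul, ← cj_mul] at h6
    have h7 := congrArg (cj a) h6
    rw [cj_mul, mul_inv_cancel, cj_one] at h7
    exact h7
  set N' := cj a (cen (Q k)) ⊔ cen (Q i) with hN'
  have hBN : B ≤ normalizer (N' : Set X) := by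
    apply le_normalizer_of_cj_le
    intro b hb
    rw [hN', cj_sup, cj_eq_of_mem_normalizer (hBV hb)]
    apply sup_le _ le_sup_right
    intro x hx
    rw [mem_cj] at hx
    have h3 := hkS _ hx b hb
    have e : x = (b * (b⁻¹ * x * b) * b⁻¹ * (b⁻¹ * x * b)⁻¹) * (b⁻¹ * x * b) := by group
    rw [e]
    exact mul_mem (mem_sup_right h3) (mem_sup_left hx)
  have hcjG : cj a S ≤ G i := by
    have := cj_mono (g := a) (h i).SG
    rwa [cj_eq_self ha] at this
  have hcjN : cj a S ≤ normalizer (N' : Set X) := fun x hx =>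
    mem_normalizer_sup' (hcjS hx) ((h i).Vn (hcjG hx))
  have hQN : Q i ≤ normalizer (N' : Set X) := by
    refine le_trans ?_ hcjN
    have := cj_mono (g := a) (h i).QS
    rwa [(h i).cjQ ha] at this
  have hSN : S ≤ normalizer (N' : Set X) := by
    have := sup_le hBN hQN
    rwa [crit_sup h hF hc] at this
  have hGN : G i ≤ normalizer (N' : Set X) := by
    have := sup_le hSN hcjN
    rwa [(h i).gen a ha haM] at this
  have h8 : cen (Q k) ⊔ cen (Q i) = N' := by
    have h9 := cj_eq_of_mem_normalizer (hGN (inv_mem ha))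
    rw [hN', cj_sup, cj_inv_cj, (h i).cjV (inv_mem ha)] at h9
    rw [h9]
  rw [h8]
  exact hGN

omit hn in
theorem normal_iff (hn : 0 < n) (ha : a ∈ G i) (haM : a ∉ M i) {k : ι} :
    Cm (cj a (cen (Q k))) (cj (pr L) (cen (Q c))) ↔
      G i ≤ normalizer ((cen (Q k) ⊔ cen (Q i) : Subgroup X) : Set X) := by
  constructor
  · exact normal_of_cm h hF hn hc ha haM
  · intro h1
    by_contra h2
    exact not_normal_of_ext h hF hn hc ha h2 h1

end ext

theorem D_le_of_normal (hn : 0 < n) {i j k : ι} {L : List (ι × X)} (hc : Crit G Q n i L j)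
    (hN : G i ≤ normalizer ((cen (Q k) ⊔ cen (Q i) : Subgroup X) : Set X))
    (hk : Cm (cen (Q k)) (cj (pr L) (cen (Q j)))) : DD S (Q k) ≤ cen (G i) := by
  have h1 : DD S (Q k) ≤ ⁅cen (Q k), Q i⁆ := by
    apply comm_le_of_mul _ hk
    intro s hs
    rw [← crit_sup h hF hc, sup_comm] at hs
    exact mul_of_sup' ((crit_le_S h hF hc).trans ((h i).SG.trans (h i).Qn)) s hs
  have h2 : ⁅cen (Q k) ⊔ cen (Q i), Q i⁆ ≤ DD S (Q k) := by
    rw [commutator_comm]
    have h3 : ⁅Q i, cen (Q k) ⊔ cen (Q i)⁆ ≤ ⁅Q i, cen (Q k)⁆ := by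
      apply comm_le_of_mul (C := cen (Q i)) _ (h i).cm_VQ.symm
      exact mul_of_sup ((h k).VS.trans (h i).SVn)
    refine h3.trans ?_
    rw [commutator_comm]
    exact commutator_mono le_rfl (h i).QS
  have h3 : ⁅cen (Q k) ⊔ cen (Q i), Q i⁆ ≤ cen (G i) := by
    apply (h i).le_cenG (h2.trans (h k).DZ)
    intro x hx
    exact mem_normalizer_commutator' (hN hx) ((h i).Qn hx)
  exact h1.trans ((commutator_mono le_sup_left le_rfl).trans h3)

theorem dichotomy (hn : 0 < n) {i j : ι} (k : ι) {L : List (ι × X)} (hc : Crit G Q n i L j) :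
    DD S (Q k) ≤ cen (G i) ∨ DD S (Q k) = DD S (Q i) := by
  by_cases h1 : Cm (cen (Q k)) (cj (pr L) (cen (Q j)))
  · left
    obtain ⟨a, ha, haM⟩ := (h i).exM
    rcases List.eq_nil_or_concat L with rfl | ⟨L', ⟨c, g⟩, rfl⟩
    · have := hc.len
      simp at this
      omega
    · rw [List.concat_eq_append] at hc h1
      by_cases h2 : Cm (cj a (cen (Q k))) (cj (pr L') (cen (Q c)))
      · exact D_le_of_normal h hF hn hc (normal_of_cm h hF hn hc ha haM h2) h1
      · exact D_le_of_ext h hF hn hc ha haM h2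
  · right
    have hc' : Crit G Q n k L j := ⟨hc.val, hc.len, h1⟩
    rw [← crit_D' h hF hc, ← crit_D' h hF hc']

/-- replacement: a type with the same `D` is critical with the same end -/
theorem crit_replace (hq : ∀ i, 1 < q i) (hn : 0 < n) {i j k : ι} {L : List (ι × X)}
    (hc : Crit G Q n i L j) (hD : DD S (Q k) = DD S (Q i)) : Crit G Q n k L j := by
  refine ⟨hc.val, hc.len, ?_⟩
  intro h1
  obtain ⟨a, ha, haM⟩ := (h i).exM
  have h3 : DD S (Q k) ≤ cen (G i) := by
    rcases List.eq_nil_or_concat L with rfl | ⟨L', ⟨c, g⟩, rfl⟩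
    · have := hc.len
      simp at this
      omega
    · rw [List.concat_eq_append] at hc h1
      by_cases h2 : Cm (cj a (cen (Q k))) (cj (pr L') (cen (Q c)))
      · exact D_le_of_normal h hF hn hc (normal_of_cm h hF hn hc ha haM h2) h1
      · exact D_le_of_ext h hF hn hc ha haM h2
  rw [hD] at h3
  exact (h i).D_not_le (hq i) h3

end Fam

end Cfsg.Agent.H259.GN
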