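import Cfsg.Agent.H259.GNPair

/-!
# Uniform Glauberman–Niles: the relation between types, reduction to distance two
-/

set_option autoImplicit false
set_option linter.unusedSectionVars false

namespace Cfsg.Agent.H259.GN

open Subgroup
open Cfsg.Agent.H260.Push
open scoped commutatorElement

variable {X : Type*} [Group X] {ι : Type*}

/-- `k` can be attached at `i` -/
def Att (G Q : ι → Subgroup X) (i k : ι) : Prop :=
  ¬ G i ≤ normalizer ((cen (Q k) ⊔ cen (Q i) : Subgroup X) : Set X)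

/-- not a dead end -/
def Nd (G Q : ι → Subgroup X) (i : ι) : Prop := ∃ k, Att G Q i k

section Fam

variable [Finite X] {S : Subgroup X} {G M Q : ι → Subgroup X} {q : ι → ℕ}
variable (h : ∀ i, PU S (G i) (M i) (Q i) (q i)) {n : ℕ} (hF : Far G Q n) (hn : 0 < n)
include h hF hn

theorem exists_last {i j : ι} {L : List (ι × X)} (hc : Crit G Q n i L j) :
    ∃ L' c g, L = L' ++ [(c, g)] := by
  rcases List.eq_nil_or_concat L with rfl | ⟨L', ⟨c, g⟩, rfl⟩
  · have := hc.len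
    simp at this
    omega
  · exact ⟨L', c, g, by rw [List.concat_eq_append]⟩

theorem att_ext {i j k c : ι} {L : List (ι × X)} {g a : X} (hc : Crit G Q n i (L ++ [(c, g)]) j)
    (ha : a ∈ G i) (haM : a ∉ M i) (hk : Att G Q i k) : Crit G Q n k ((i, a⁻¹) :: L) c := by
  apply crit_ext hc ha
  intro h1
  exact hk ((normal_iff h hF hc hn ha haM).1 h1)

theorem att_D_le {i j k c : ι} {L : List (ι × X)} {g : X} (hc : Crit G Q n i (L ++ [(c, g)]) j)
    (hk : Att G Q i k) : DD S (Q k) ≤ cen (G i) := by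
  obtain ⟨a, ha, haM⟩ := (h i).exM
  apply D_le_of_ext h hF hn hc ha haM
  intro h1
  exact hk ((normal_iff h hF hc hn ha haM).1 h1)

/-- (L) -/
theorem att_of_crit {i j c : ι} {L : List (ι × X)} {g : X} (hc : Crit G Q n i ((c, g) :: L) j) :
    Att G Q c i := by
  intro hN
  apply hc.ne
  have hlen : L.length < n := by
    have := hc.len
    simp at this
    omega
  have hg : g ∈ G c := hc.val (c, g) List.mem_cons_self
  have h1 : cen (Q i) ≤ cj g (cen (Q i) ⊔ cen (Q c)) := by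
    rw [cj_eq_of_mem_normalizer (hN hg)]
    exact le_sup_left
  have h2 : Cm (cen (Q i) ⊔ cen (Q c)) (cj (pr L) (cen (Q j))) :=
    (hF L hc.val.tail hlen i j).sup_left (hF L hc.val.tail hlen c j)
  have h3 := h2.cj g
  rw [cj_mul] at h3
  rw [pr_cons]
  exact h3.mono h1 le_rfl

theorem att_D_eq {i j k l c : ι} {L : List (ι × X)} {g : X} (hc : Crit G Q n i (L ++ [(c, g)]) j)
    (hk : Att G Q i k) (hl : Att G Q i l) : DD S (Q k) = DD S (Q l) := by
  obtain ⟨a, ha, haM⟩ := (h i).exM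
  rw [← crit_D' h hF (att_ext h hF hn hc ha haM hk), ← crit_D' h hF (att_ext h hF hn hc ha haM hl)]

theorem att_of_D_eq (hq : ∀ i, 1 < q i) {i j k l c : ι} {L : List (ι × X)} {g : X}
    (hc : Crit G Q n i (L ++ [(c, g)]) j)
    (hk : Att G Q i k) (hl : DD S (Q l) = DD S (Q k)) : Att G Q i l := by
  obtain ⟨a, ha, haM⟩ := (h i).exM
  have h1 := crit_replace h hF hq hn (att_ext h hF hn hc ha haM hk) hl
  exact att_of_crit h hF hn h1

/-- dropping on the right -/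
theorem drop (hq : ∀ i, 1 < q i) (hnd : ∀ i, ∃ k, Nd G Q k ∧ DD S (Q k) = DD S (Q i)) (R : List (ι × X)) :
    ∀ (P : List (ι × X)) (k j c : ι) (g : X), Nd G Q k → Crit G Q n k (P ++ (c, g) :: R) j →
      ∃ k' P' h', Crit G Q n k' (P' ++ (k, h') :: P) c := by
  induction R using List.reverseRecOn with
  | nil =>
    intro P k j c g hk hc
    obtain ⟨k₁, hk₁⟩ := hk
    obtain ⟨a, ha, haM⟩ := (h k).exM
    exact ⟨k₁, [], a⁻¹, att_ext h hF hn hc ha haM hk₁⟩
  | append_singleton R' x ih =>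
    obtain ⟨c', g'⟩ := x
    intro P k j c g hk hc
    have hc' : Crit G Q n k ((P ++ (c, g) :: R') ++ [(c', g')]) j := by
      have e : P ++ (c, g) :: (R' ++ [(c', g')]) = (P ++ (c, g) :: R') ++ [(c', g')] := by simp
      rwa [e] at hc
    obtain ⟨k₀, hk₀⟩ := hk
    obtain ⟨k₁, hk₁, hD⟩ := hnd k₀
    have hk₂ := att_of_D_eq h hF hn hq hc' hk₀ hD
    obtain ⟨a, ha, haM⟩ := (h k).exM
    have h1 := att_ext h hF hn hc' ha haM hk₂
    have h2 : Crit G Q n k₁ (((k, a⁻¹) :: P) ++ (c, g) :: R') c' := by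
      simpa using h1
    obtain ⟨k', P', h', h3⟩ := ih _ _ _ _ _ hk₁ h2
    refine ⟨k', P' ++ [(k₁, h')], a⁻¹, ?_⟩
    simpa using h3

/-- (S) -/
theorem att_symm (hq : ∀ i, 1 < q i) (hnd : ∀ i, ∃ k, Nd G Q k ∧ DD S (Q k) = DD S (Q i))
    {i j c : ι} {L : List (ι × X)} {g : X} (hi : Nd G Q i) (hc : Crit G Q n i ((c, g) :: L) j) :
    Att G Q i c := by
  obtain ⟨k', P', h', h1⟩ := drop h hF hn hq hnd L [] i j c g hi (by simpa using hc)
  have h2 := h1.symm
  have e : rv (P' ++ [(i, h')]) = (i, h'⁻¹) :: rv P' := by simp [rv]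
  rw [e] at h2
  exact att_of_crit h hF hn h2

/-- (5) -/
theorem n_eq_one (hq : ∀ i, 1 < q i) {x y : ι} (hxy : Att G Q x y) (hyx : Att G Q y x)
    (hx : ∃ L j, Crit G Q n x L j) : n = 1 := by
  by_contra hn1
  have hn2 : 2 ≤ n := by omega
  obtain ⟨L, j, hc⟩ := hx
  obtain ⟨L', c, g, rfl⟩ := exists_last h hF hn hc
  have hL' : ∃ L'' c' g', L' = L'' ++ [(c', g')] := by
    rcases List.eq_nil_or_concat L' with rfl | ⟨L'', ⟨c', g'⟩, rfl⟩
    · have := hc.len
      simp at this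
      omega
    · exact ⟨L'', c', g', by rw [List.concat_eq_append]⟩
  obtain ⟨L'', c', g', rfl⟩ := hL'
  obtain ⟨a, ha, haM⟩ := (h x).exM
  obtain ⟨b, hb, hbM⟩ := (h y).exM
  have h1 := att_ext h hF hn hc ha haM hxy
  have h1' : Crit G Q n y (((x, a⁻¹) :: L'') ++ [(c', g')]) c := by simpa using h1
  have h2 := att_ext h hF hn h1' hb hbM hyx
  have h3 : DD S (Q x) ≤ cen (G y) := att_D_le h hF hn h1' hyx
  have hbD : cj b⁻¹ (DD S (Q x)) = DD S (Q x) := (h y).cenG_norm (inv_mem hb) h3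
  have h4 := crit_D' h hF h2
  have hgc : g ∈ G c := hc.val (c, g) (by simp)
  have hgc' : g' ∈ G c' := hc.val (c', g') (by simp)
  -- the last conjugate
  set w := pr (L'' ++ [(c', g')] ++ [(c, g)]) with hw
  have hw' : w = pr L'' * (g' * g) := by
    rw [hw]
    simp
  have h5 : Cm (cen (Q c')) (cj (g' * g) (cen (Q j))) := by
    have h6 := hF [(c, g)] (hc.val.right) (by simp; omega) c' j
    have h7 := h6.cj g'
    rw [(h c').cjV hgc', cj_mul] at h7
    have e : pr [(c, g)] = g := by simp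
    rwa [e] at h7
  have h6 : Cm (DD S (Q x)) (cj (b⁻¹ * (a⁻¹ * w)) (cen (Q j))) := by
    have h7 := (h5.mono (h c').DV le_rfl).cj (pr ((y, b⁻¹) :: (x, a⁻¹) :: L''))
    rw [h4, cj_mul] at h7
    have e : pr ((y, b⁻¹) :: (x, a⁻¹) :: L'') * (g' * g) = b⁻¹ * (a⁻¹ * w) := by
      rw [hw']
      simp [mul_assoc]
    rwa [e] at h7
  have h7 : cj (b⁻¹ * (a⁻¹ * w)) (cen (Q j)) ⊔ cj b⁻¹ (Q x) = cj b⁻¹ (cj a⁻¹ S) := by
    have h8 := crit_sup h hF hc
    have h9 : cj b⁻¹ (cj a⁻¹ (cj w (cen (Q j)) ⊔ Q x)) = cj b⁻¹ (cj a⁻¹ S) := by rw [h8]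
    rw [cj_sup, cj_sup, cj_mul, (h x).cjQ (inv_mem ha), cj_mul, mul_assoc] at h9
    exact h9
  have h8 : Cm (DD S (Q x)) (cj b⁻¹ (Q x)) := by
    have h9 : Cm (cj b⁻¹ (DD S (Q x))) (cj b⁻¹ (Q x)) := ((h x).cm_VQ.mono (h x).DV le_rfl).cj _
    rwa [hbD] at h9
  have h9 : Cm (DD S (Q x)) (cj b⁻¹ (cj a⁻¹ S)) := by
    rw [← h7]
    exact h6.sup_right h8
  have h10 : Cm (DD S (Q x)) (cj b⁻¹ S) := by
    have h11 : Cm (DD S (Q x)) S := fun d hd s hs => (cen_comm ((h x).DZ hd) hs).symm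
    have h12 := h11.cj b⁻¹
    rwa [hbD] at h12
  have h11 : Cm (DD S (Q x)) (cj b⁻¹ (G x)) := by
    have haM' : a⁻¹ ∉ M x := (h x).inv_notMem haM
    rw [← (h x).gen a⁻¹ (inv_mem ha) haM', cj_sup]
    exact h10.sup_right h9
  have h12 : Cm (DD S (Q x)) (G x) := by
    have h13 := h11.cj b
    rw [cj_mul, mul_inv_cancel, cj_one] at h13
    have h14 : cj b (DD S (Q x)) = DD S (Q x) := (h y).cenG_norm hb h3
    rwa [h14] at h13
  apply (h x).D_not_le (hq x)
  intro d hd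
  rw [mem_cen]
  exact ⟨(h x).SG (cen_le S ((h x).DZ hd)), fun g hg => (h12 d hd g hg).symm⟩

end Fam

/-! ### From a closed family to a pair -/

section Closed

variable [Finite X] {S : Subgroup X} {G M Q : ι → Subgroup X} {q : ι → ℕ}

/-- `k` is the twist of `i` by `a` -/
def Tw (G Q : ι → Subgroup X) (a : X) (i k : ι) : Prop := G k = cj a (G i) ∧ Q k = cj a (Q i)

/-- closedness -/
def Clo (S : Subgroup X) (G Q : ι → Subgroup X) : Prop :=
  ∀ 𝒳 : Set ι, 𝒳.Nonempty → (∀ a ∈ normalizer (S : Set X), ∀ i ∈ 𝒳, ∀ k, Tw G Q a i k → k ∈ 𝒳) →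
    (∀ x ∈ 𝒳, ∀ k ∉ 𝒳, DD S (Q x) ≤ cen (G k)) → 𝒳 = Set.univ

variable (h : ∀ i, PU S (G i) (M i) (Q i) (q i))

include h

/-- if everything commutes there is a common normal subgroup containing all `V_i` -/
theorem core_of_far (hcon : ∀ m, Far G Q m) :
    ∃ K ≤ S, (∀ i, G i ≤ normalizer (K : Set X)) ∧ ∀ i, cen (Q i) ≤ K := by
  -- the join of all conjugates
  let K : Subgroup X := ⨆ x : {L : List (ι × X) // Val G L} × ι, cj (pr x.1.1) (cen (Q x.2))
  refine ⟨K, ?_, ?_, ?_⟩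
  · apply iSup_le
    rintro ⟨⟨L, hL⟩, j⟩
    exact le_S h (hcon L.length) hL le_rfl j
  · intro i
    apply le_normalizer_of_cj_le
    intro g hg
    rw [cj, Subgroup.map_iSup]
    apply iSup_le
    rintro ⟨⟨L, hL⟩, j⟩
    have h1 : (cj (pr L) (cen (Q j))).map (MulAut.conj g).toMonoidHom =
        cj (pr ((i, g) :: L)) (cen (Q j)) := by
      rw [pr_cons, ← cj_mul]
      rfl
    rw [h1]
    exact le_iSup (fun x : {L : List (ι × X) // Val G L} × ι => cj (pr x.1.1) (cen (Q x.2)))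
      (⟨⟨(i, g) :: L, hL.cons hg⟩, j⟩)
  · intro i
    have h2 : cj (pr ([] : List (ι × X))) (cen (Q i)) ≤ K :=
      le_iSup (fun x : {L : List (ι × X) // Val G L} × ι => cj (pr x.1.1) (cen (Q x.2)))
        (⟨⟨[], by intro x hx; simp at hx⟩, i⟩)
    rwa [pr_nil, cj_one] at h2

omit h [Finite X] in
theorem exists_n (hE : ∀ i j, Cm (cen (Q i)) (cen (Q j))) (hex : ∃ m, ¬ Far G Q m) :
    ∃ n, 0 < n ∧ Far G Q n ∧ ∃ i L j, Crit G Q n i L j := by
  classical
  obtain ⟨m, hm, hmin⟩ : ∃ m, ¬ Far G Q m ∧ ∀ k < m, Far G Q k :=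
    ⟨Nat.find hex, Nat.find_spec hex, fun k hk => not_not.1 (Nat.find_min hex hk)⟩
  have hm0 : m ≠ 0 := by
    rintro rfl
    apply hm
    intro L _ hl
    omega
  obtain ⟨n, rfl⟩ : ∃ n, m = n + 1 := ⟨m - 1, by omega⟩
  have hFn := hmin n (by omega)
  have hc : ∃ i L j, Crit G Q n i L j := by
    by_contra hcon
    push Not at hcon
    apply hm
    intro L hL hl i j
    by_cases hl' : L.length < n
    · exact hFn L hL hl' i j
    · by_contra h1
      exact hcon i L j ⟨hL, by omega, h1⟩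
  refine ⟨n, ?_, hFn, hc⟩
  rcases Nat.eq_zero_or_pos n with rfl | h1
  · exfalso
    obtain ⟨i, L, j, hc⟩ := hc
    have h2 : L = [] := List.eq_nil_of_length_eq_zero hc.len
    subst h2
    apply hc.ne
    rw [pr_nil, cj_one]
    exact hE i j
  · exact h1

omit h [Finite X] in
theorem Tw.DD {a : X} (ha : a ∈ normalizer (S : Set X)) {i k : ι} (ht : Tw G Q a i k) :
    DD S (Q k) = cj a (DD S (Q i)) := by
  unfold GN.DD
  rw [cj_commutator, cj_eq_of_mem_normalizer ha, ht.2, cj_cen]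

omit h [Finite X] in
theorem Tw.q_eq (h : ∀ i, PU S (G i) (M i) (Q i) (q i)) [Finite X] {a : X} {i k : ι} (ht : Tw G Q a i k) :
    q k = q i := by
  have h1 := (h k).cardS
  have h2 := (h i).cardS
  rw [ht.2, card_cj] at h1
  have h3 : 0 < Nat.card (Q i) := Nat.card_pos
  rw [h1] at h2
  exact Nat.eq_of_mul_eq_mul_right h3 h2

omit h [Finite X] in
theorem Tw.symm {a : X} {i k : ι} (ht : Tw G Q a i k) : Tw G Q a⁻¹ k i := by
  refine ⟨?_, ?_⟩
  · rw [ht.1, cj_inv_cj]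
  · rw [ht.2, cj_inv_cj]

omit h [Finite X] in
theorem Tw.trans {a b : X} {i k l : ι} (ht : Tw G Q a i k) (ht' : Tw G Q b k l) :
    Tw G Q (b * a) i l := by
  refine ⟨?_, ?_⟩
  · rw [ht'.1, ht.1, cj_mul]
  · rw [ht'.2, ht.2, cj_mul]

/-- twisted paths -/
theorem Val.tw (hT : ∀ a ∈ normalizer (S : Set X), ∀ i, ∃ k, Tw G Q a i k) {a : X}
    (ha : a ∈ normalizer (S : Set X)) {L : List (ι × X)} (hL : Val G L) :
    ∃ L', Val G L' ∧ L'.length = L.length ∧ pr L' = a * pr L * a⁻¹ := by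
  clear h
  induction L with
  | nil => exact ⟨[], by intro x hx; simp at hx, rfl, by simp⟩
  | cons x L ih =>
    obtain ⟨L', h1, h2, h3⟩ := ih hL.tail
    obtain ⟨k, hk⟩ := hT a ha x.1
    refine ⟨(k, a * x.2 * a⁻¹) :: L', h1.cons ?_, by simp [h2], ?_⟩
    · rw [hk.1, mem_cj]
      have e : a⁻¹ * (a * x.2 * a⁻¹) * a = x.2 := by group
      rw [e]
      exact hL.head
    · rw [pr_cons, h3, pr_cons]
      group

theorem Crit.tw (hT : ∀ a ∈ normalizer (S : Set X), ∀ i, ∃ k, Tw G Q a i k) {n : ℕ} {a : X}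
    (ha : a ∈ normalizer (S : Set X)) {i j k : ι} {L : List (ι × X)} (hc : Crit G Q n i L j)
    (hk : Tw G Q a i k) : ∃ L' l, Crit G Q n k L' l := by
  obtain ⟨L', h1, h2, h3⟩ := Val.tw h hT ha hc.val
  obtain ⟨l, hl⟩ := hT a ha j
  refine ⟨L', l, h1, h2.trans hc.len, ?_⟩
  intro h4
  apply hc.ne
  rw [h3, hl.2, hk.2, ← cj_cen, ← cj_cen, cj_mul] at h4
  have e : a * pr L * a⁻¹ * a = a * pr L := by group
  rw [e, ← cj_mul, cm_cj_iff] at h4
  exact h4

omit h [Finite X] in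
theorem Att.tw {a : X} {i j k l : ι}
    (hk : Tw G Q a i k) (hl : Tw G Q a j l) (hij : Att G Q i j) : Att G Q k l := by
  intro hN
  apply hij
  intro g hg
  have h1 : a * g * a⁻¹ ∈ G k := by
    rw [hk.1, mem_cj]
    have e : a⁻¹ * (a * g * a⁻¹) * a = g := by group
    rwa [e]
  have h2 := cj_eq_of_mem_normalizer (hN h1)
  rw [hk.2, hl.2, ← cj_cen, ← cj_cen, ← cj_sup, cj_mul] at h2
  rw [← cj_eq_iff_mem_normalizer]
  have h3 := congrArg (cj a⁻¹) h2
  rw [cj_inv_cj, cj_mul] at h3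
  have e : a⁻¹ * (a * g * a⁻¹ * a) = g := by group
  rwa [e] at h3

/-- **Reduction to distance two.** -/
theorem exists_pair [Nonempty ι] (hq : ∀ i, 1 < q i) (hE : ∀ i j, Cm (cen (Q i)) (cen (Q j)))
    (hex : ∃ m, ¬ Far G Q m)
    (hT : ∀ a ∈ normalizer (S : Set X), ∀ i, ∃ k, Tw G Q a i k) (hC : Clo S G Q) :
    ∃ x y, Pair S (G x) (M x) (Q x) (G y) (M y) (Q y) (q x) := by
  obtain ⟨n, hn, hF, hcr⟩ := exists_n hE hex
  -- all types are critical
  have hall : ∀ i, ∃ L j, Crit G Q n i L j := by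
    by_contra hcon
    push Not at hcon
    obtain ⟨i₀, hi₀⟩ := hcon
    have h1 := hC {i | ¬ ∃ L j, Crit G Q n i L j} ⟨i₀, by
      rintro ⟨L, j, hc⟩
      exact hi₀ L j hc⟩ (by
      rintro a ha i hi k hk ⟨L, j, hc⟩
      apply hi
      exact hc.tw h hT (inv_mem ha) hk.symm) (by
      intro x hx k hk
      simp only [Set.mem_ofPred_eq, not_not] at hk
      obtain ⟨L, j, hc⟩ := hk
      rcases dichotomy h hF hn x hc with h1 | h1
      · exact h1
      · exact absurd ⟨L, j, crit_replace h hF hq hn hc h1⟩ hx)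
    obtain ⟨i, L, j, hc⟩ := hcr
    have h2 : i ∈ (Set.univ : Set ι) := Set.mem_univ i
    rw [← h1] at h2
    exact h2 ⟨L, j, hc⟩
  -- every type has the same `D` as some twist of a given one
  have htw : ∀ i k, ∃ a ∈ normalizer (S : Set X), ∃ x, Tw G Q a i x ∧ DD S (Q k) = DD S (Q x) := by
    intro i
    have h1 := hC {k | ∃ a ∈ normalizer (S : Set X), ∃ x, Tw G Q a i x ∧ DD S (Q k) = DD S (Q x)}
      ⟨i, 1, one_mem _, i, ⟨by rw [cj_one], by rw [cj_one]⟩, rfl⟩ (by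
      rintro b hb k ⟨a, ha, x, hx, hD⟩ l hl
      obtain ⟨y, hy⟩ := hT b hb x
      refine ⟨b * a, mul_mem hb ha, y, hx.trans hy, ?_⟩
      rw [hl.DD hb, hy.DD hb, hD]) (by
      rintro k ⟨a, ha, x, hx, hD⟩ l hl
      obtain ⟨L, j, hc⟩ := hall l
      rcases dichotomy h hF hn k hc with h1 | h1
      · exact h1
      · exact absurd ⟨a, ha, x, hx, h1.symm.trans hD⟩ hl)
    intro k
    have h2 : k ∈ (Set.univ : Set ι) := Set.mem_univ k
    rw [← h1] at h2
    exact h2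
  -- nondead types
  have hnd : ∀ i, ∃ k, Nd G Q k ∧ DD S (Q k) = DD S (Q i) := by
    intro i
    obtain ⟨L, j, hc⟩ := hall i
    cases L with
    | nil =>
      have := hc.len
      simp at this
      omega
    | cons x L =>
      obtain ⟨c, g⟩ := x
      have h1 : Nd G Q c := ⟨i, att_of_crit h hF hn hc⟩
      obtain ⟨a, ha, x, hx, hD⟩ := htw c i
      obtain ⟨k, hk⟩ := h1
      obtain ⟨l, hl⟩ := hT a ha k
      exact ⟨x, ⟨l, hk.tw hx hl⟩, hD.symm⟩
  -- the pair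
  obtain ⟨i₀⟩ := (inferInstance : Nonempty ι)
  obtain ⟨x, hxnd, -⟩ := hnd i₀
  obtain ⟨L, j, hc⟩ := hall x
  have hL : ∃ y g L', L = (y, g) :: L' := by
    cases L with
    | nil =>
      have := hc.len
      simp at this
      omega
    | cons x L => exact ⟨x.1, x.2, L, rfl⟩
  obtain ⟨y, g, L', rfl⟩ := hL
  have hyx := att_of_crit h hF hn hc
  have hxy := att_symm h hF hn hq hnd hxnd hc
  have hn1 := n_eq_one h hF hn hq hxy hyx ⟨_, _, hc⟩
  subst hn1
  -- noncommuting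
  have key : ∀ x y, Att G Q x y → Att G Q y x →
      (DD S (Q y) ≤ cen (G x)) ∧ ∀ a ∈ G x, a ∉ M x → Crit G Q 1 y [(x, a)] y := by
    intro x y hxy hyx
    obtain ⟨L, j, hc⟩ := hall x
    obtain ⟨L', c, g, rfl⟩ := exists_last h hF hn hc
    have hL' : L' = [] := by
      have := hc.len
      simp at this
      exact this
    subst hL'
    refine ⟨att_D_le h hF hn hc hxy, ?_⟩
    intro a ha haM
    have hxc : Att G Q x c := att_symm h hF hn hq hnd ⟨y, hxy⟩ (by simpa using hc)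
    have hD : DD S (Q y) = DD S (Q c) := att_D_eq h hF hn hc hxy hxc
    have h1 := (att_ext h hF hn hc ha haM hxy).symm
    have e : rv ((x, a⁻¹) :: ([] : List (ι × X))) = [(x, a)] := by simp [rv]
    rw [e] at h1
    exact crit_replace h hF hq hn h1 hD
  obtain ⟨hDy, hcy⟩ := key x y hxy hyx
  obtain ⟨hDx, hcx⟩ := key y x hyx hxy
  have hqq : q x = q y := by
    obtain ⟨a, ha, x', hx', hD⟩ := htw x y
    obtain ⟨g, hg, hgM⟩ := (h x).exM
    have h1 := hcy g hg hgM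
    have h2 := crit_replace h hF hq hn h1 hD.symm
    have h3 := crit_q h hF h2
    rw [← hx'.q_eq h]
    exact h3
  refine ⟨x, y, h x, ?_, hE x y, ?_, ?_, hDx, hDy⟩
  · rw [hqq]; exact h y
  · intro a ha haM h1
    have h2 := (hcy a ha haM).ne
    apply h2
    have e : pr [(x, a)] = a := by simp
    rwa [e]
  · intro a ha haM h1
    have h2 := (hcx a ha haM).ne
    apply h2
    have e : pr [(y, a)] = a := by simp
    rwa [e]

end Closed

end Cfsg.Agent.H259.GN
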