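import Cfsg.Agent.H259.GNAmb
import Cfsg.Agent.H260.Push5

/-!
# Uniform Glauberman–Niles: transport of the structure theorem to the ambient group
-/

set_option autoImplicit false
set_option linter.unusedSectionVars false

namespace Cfsg.Agent.H259.GN

open Subgroup
open Cfsg.Agent.H260.Push
open scoped commutatorElement

section

variable {G X : Type*} [Group G] [Group X] (φ : G →* X) (hφ : Function.Injective φ)

theorem map_cj (g : G) (H : Subgroup G) : (cj g H).map φ = cj (φ g) (H.map φ) := by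
  unfold cj
  rw [Subgroup.map_map, Subgroup.map_map]
  congr 1
  ext x
  simp

theorem map_commutator' (A B : Subgroup G) : (⁅A, B⁆ : Subgroup G).map φ = ⁅A.map φ, B.map φ⁆ :=
  map_commutator _ _ _

include hφ

theorem map_cen (H : Subgroup G) : (cen H).map φ = cen (H.map φ) := by
  ext x
  constructor
  · rintro ⟨y, hy, rfl⟩
    rw [mem_cen]
    refine ⟨mem_map_of_mem φ (cen_le H hy), ?_⟩
    rintro _ ⟨z, hz, rfl⟩
    rw [← map_mul, ← map_mul, cen_comm hy hz]
  · intro hx
    rw [mem_cen] at hx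
    obtain ⟨⟨y, hy, rfl⟩, h2⟩ := hx
    refine ⟨y, ?_, rfl⟩
    change y ∈ cen H
    rw [mem_cen]
    refine ⟨hy, fun z hz => ?_⟩
    apply hφ
    rw [map_mul, map_mul]
    exact h2 _ (mem_map_of_mem φ hz)

theorem cen_range : cen φ.range = (center G).map φ := by
  rw [MonoidHom.range_eq_map, ← map_cen φ hφ]
  congr 1
  ext x
  rw [mem_cen, mem_center_iff]
  constructor
  · intro h y
    exact h.2 y (mem_top y)
  · intro h
    exact ⟨mem_top x, fun y _ => h y⟩

theorem card_map' (H : Subgroup G) : Nat.card (H.map φ) = Nat.card H :=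
  Nat.card_congr (H.equivMapOfInjective φ hφ).symm.toEquiv

theorem mem_map_iff' {H : Subgroup G} {x : G} : φ x ∈ H.map φ ↔ x ∈ H :=
  Subgroup.mem_map_iff_mem hφ

theorem inf_map' (A B : Subgroup G) : (A ⊓ B).map φ = A.map φ ⊓ B.map φ :=
  Subgroup.map_inf A B φ hφ

theorem map_le_iff' {A B : Subgroup G} : A.map φ ≤ B.map φ ↔ A ≤ B :=
  Subgroup.map_le_map_iff_of_injective hφ

end

/-- transport of the structure theorem -/
theorem PU.of_core {G X : Type*} [Group G] [Finite G] [Group X] (φ : G →* X)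
    (hφ : Function.Injective φ) {p q : ℕ} [Fact p.Prime] {S T M : Subgroup G}
    (c : Core p q S T M) (n : Core.Nat' p q S T M) :
    PU (S.map φ) φ.range (M.map φ) (T.map φ) q := by
  have hTn := c.normT
  have hcm : ∀ y s : G, cm (φ y) (φ s) = φ (cm y s) := by
    intro y s
    unfold cm
    simp
  refine ⟨map_le_range φ S, ?_, ?_, ?_, Subgroup.map_mono c.le, ?_, ?_, ?_, ?_, ?_, ?_, ?_, ?_, ?_⟩
  · rintro _ ⟨g, rfl⟩ hg
    rw [mem_map_iff' φ hφ] at hg
    rw [← map_cj, ← Subgroup.map_sup, c.gen g hg, MonoidHom.range_eq_map]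
  · obtain ⟨g, hg⟩ := c.exists_notMem_M
    exact ⟨φ g, ⟨g, rfl⟩, fun h => hg ((mem_map_iff' φ hφ).1 h)⟩
  · rintro _ ⟨g, rfl⟩ hg _ ⟨s, hs, rfl⟩ hsQ h1
    rw [mem_map_iff' φ hφ] at hg hsQ
    rw [← map_inv, ← map_mul, ← map_mul, mem_map_iff' φ hφ] at h1
    exact c.ti g hg s hs hsQ h1
  · rintro _ ⟨g, rfl⟩
    rw [← cj_eq_iff_mem_normalizer, ← map_cj, cj_normal g T]
  · rw [← map_cen φ hφ, ← map_cen φ hφ]
    exact Subgroup.map_mono c.Zs_le
  · rw [← map_cen φ hφ, ← map_cen φ hφ, card_map' φ hφ, card_map' φ hφ]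
    exact n.cardX
  · rw [card_map' φ hφ, card_map' φ hφ]
    exact c.card
  · rw [← map_cen φ hφ]
    apply le_antisymm
    · rintro _ ⟨⟨s, hs, rfl⟩, h1⟩
      apply mem_map_of_mem φ
      rw [← n.centX]
      refine ⟨hs, ?_⟩
      change s ∈ centralizer _
      rw [mem_centralizer_iff]
      intro y hy
      have h2 : φ s ∈ centralizer ((cen T).map φ : Set X) := h1
      rw [mem_centralizer_iff] at h2
      apply hφ
      rw [map_mul, map_mul]
      exact h2 _ (mem_map_of_mem φ hy)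
    · rintro _ ⟨t, ht, rfl⟩
      refine ⟨mem_map_of_mem φ (c.le ht), ?_⟩
      change φ t ∈ centralizer _
      rw [mem_centralizer_iff]
      rintro _ ⟨y, hy, rfl⟩
      rw [← map_mul, ← map_mul, cen_comm hy ht]
  · rintro _ ⟨s, hs, rfl⟩ hsQ x hx h1
    rw [← map_cen φ hφ] at hx ⊢
    obtain ⟨y, hy, rfl⟩ := hx
    rw [mem_map_iff' φ hφ] at hsQ
    apply mem_map_of_mem φ
    apply n.fix s hs hsQ y hy
    apply hφ
    rw [map_mul, map_mul]
    exact h1
  · rintro _ ⟨s, hs, rfl⟩ hsQ x hx h1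
    rw [← map_cen φ hφ] at hx ⊢
    obtain ⟨y, hy, rfl⟩ := hx
    rw [mem_map_iff' φ hφ] at hsQ
    rw [hcm, cen_range φ hφ, mem_map_iff' φ hφ] at h1
    apply mem_map_of_mem φ
    exact n.cmc s hs hsQ y hy h1
  · rintro x hx _ ⟨s, hs, rfl⟩
    rw [← map_cen φ hφ] at hx ⊢
    obtain ⟨y, hy, rfl⟩ := hx
    rw [hcm]
    exact mem_map_of_mem φ (n.quad y hy s hs)
  · rw [cen_range φ hφ, ← map_cen φ hφ]
    exact Subgroup.map_mono c.center_le

/-- the largest subgroup of `S` normalised by `Y` -/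
def Qc {X : Type*} [Group X] (S Y : Subgroup X) : Subgroup X :=
  sSup {K | K ≤ S ∧ Y ≤ normalizer (K : Set X)}

section

variable {X : Type*} [Group X]

theorem Qc_le (S Y : Subgroup X) : Qc S Y ≤ S := sSup_le fun _ h => h.1

theorem le_Qc {S Y K : Subgroup X} (h1 : K ≤ S) (h2 : Y ≤ normalizer (K : Set X)) : K ≤ Qc S Y :=
  le_sSup ⟨h1, h2⟩

theorem cj_core_le {a : X} {S Y : Subgroup X} (ha : a ∈ normalizer (S : Set X)) :
    cj a (Qc S Y) ≤ Qc S (cj a Y) := by
  unfold cj
  rw [Subgroup.map_le_iff_le_comap]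
  apply sSup_le
  rintro K ⟨h1, h2⟩
  rw [← Subgroup.map_le_iff_le_comap]
  change cj a K ≤ Qc S (cj a Y)
  apply le_Qc
  · have := cj_mono (g := a) h1
    rwa [cj_eq_of_mem_normalizer ha] at this
  · intro y hy
    rw [mem_cj] at hy
    have h3 := cj_eq_of_mem_normalizer (h2 hy)
    rw [← cj_eq_iff_mem_normalizer]
    rw [← cj_mul, ← cj_mul] at h3
    have h4 := congrArg (cj a) h3
    rw [cj_mul, mul_inv_cancel, cj_one] at h4
    exact h4

theorem cj_core {a : X} {S Y : Subgroup X} (ha : a ∈ normalizer (S : Set X)) :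
    cj a (Qc S Y) = Qc S (cj a Y) := by
  apply le_antisymm (cj_core_le ha)
  have h1 := cj_core_le (S := S) (Y := cj a Y) (inv_mem ha)
  rw [cj_inv_cj] at h1
  have h2 := cj_mono (g := a) h1
  rwa [cj_mul, mul_inv_cancel, cj_one] at h2

end

theorem Core.Qc_eq {G X : Type*} [Group G] [Finite G] [Group X] (φ : G →* X)
    (hφ : Function.Injective φ) {p q : ℕ} [Fact p.Prime] {S T M : Subgroup G}
    (c : Core p q S T M) : Qc (S.map φ) φ.range = T.map φ := by
  have hTn := c.normT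
  apply le_antisymm
  · apply sSup_le
    rintro K ⟨h1, h2⟩
    have h3 : K ≤ φ.range := h1.trans (map_le_range φ S)
    have h4 : (K.comap φ).map φ = K := Subgroup.map_comap_eq_self h3
    have h5 : (K.comap φ).Normal := by
      constructor
      intro x hx g
      rw [mem_comap] at hx ⊢
      have h6 := h2 ⟨g, rfl⟩
      rw [map_mul, map_mul, map_inv]
      exact (mem_normalizer_iff.1 h6 _).1 hx
    have h6 : K.comap φ ≤ S := by
      rw [← map_le_iff' φ hφ, h4]
      exact h1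
    rw [← h4]
    apply Subgroup.map_mono
    rw [c.hT]
    exact Cfsg.Agent.Lib.Cores.le_pCore h5 (c.pgS.to_le h6)
  · apply le_Qc (Subgroup.map_mono c.le)
    rintro _ ⟨g, rfl⟩
    rw [← cj_eq_iff_mem_normalizer, ← map_cj, cj_normal g T]

end Cfsg.Agent.H259.GN
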