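import Cfsg.Agent.H259.GN3
import Cfsg.Agent.H259.GNType
import Cfsg.Agent.H260.Push4

/-!
# Uniform Glauberman–Niles: minimal closed families
-/

set_option autoImplicit false
set_option linter.unusedSectionVars false

namespace Cfsg.Agent.H259.GN

open Subgroup
open Cfsg.Agent.H260.Push
open scoped commutatorElement

variable {X : Type*} [Group X]

/-- `⟨D_Y ∩ S₀ : Y ∈ 𝒳⟩` -/
def RR (S S₀ : Subgroup X) (𝒳 : Set (Subgroup X)) : Subgroup X :=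
  ⨆ Y ∈ 𝒳, S₀ ⊓ DD S (Qc S Y)

theorem RR_mono {S S₀ : Subgroup X} {𝒳 𝒴 : Set (Subgroup X)} (h : 𝒳 ⊆ 𝒴) : RR S S₀ 𝒳 ≤ RR S S₀ 𝒴 :=
  iSup₂_le fun Y hY => le_iSup₂_of_le Y (h hY) le_rfl

theorem le_RR {S S₀ : Subgroup X} {𝒳 : Set (Subgroup X)} {Y : Subgroup X} (h : Y ∈ 𝒳) :
    S₀ ⊓ DD S (Qc S Y) ≤ RR S S₀ 𝒳 := le_iSup₂_of_le Y h le_rfl

theorem cj_DD {a : X} {S Q : Subgroup X} (ha : a ∈ normalizer (S : Set X)) :
    cj a (DD S Q) = DD S (cj a Q) := by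
  unfold DD
  rw [cj_commutator, cj_eq_of_mem_normalizer ha, cj_cen]

theorem cj_normalizer_le {a : X} {Y K : Subgroup X} (h : Y ≤ normalizer (K : Set X)) :
    cj a Y ≤ normalizer (cj a K : Set X) := by
  intro y hy
  rw [mem_cj] at hy
  have h3 := cj_eq_of_mem_normalizer (h hy)
  rw [← cj_eq_iff_mem_normalizer]
  rw [← cj_mul, ← cj_mul] at h3
  have h4 := congrArg (cj a) h3
  rw [cj_mul, mul_inv_cancel, cj_one] at h4
  exact h4

/-- closed families -/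
structure Closed (S S₀ : Subgroup X) (F₀ 𝒳 : Set (Subgroup X)) : Prop where
  ne : 𝒳.Nonempty
  sub : 𝒳 ⊆ F₀
  tw : ∀ a ∈ normalizer (S : Set X), ∀ Y ∈ 𝒳, cj a Y ∈ 𝒳
  cl : ∀ Y ∈ F₀, ¬ RR S S₀ 𝒳 ≤ cen Y → Y ∈ 𝒳

/-- **The pair of the uniform theorem, inside the ambient group.** -/
theorem exists_RK [Finite X] {S S₀ : Subgroup X} {F₀ : Set (Subgroup X)} {M : Subgroup X → Subgroup X}
    {q : Subgroup X → ℕ} (hPU : ∀ Y ∈ F₀, PU S Y (M Y) (Qc S Y) (q Y)) (hq : ∀ Y ∈ F₀, 1 < q Y)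
    (hne : F₀.Nonempty) (htw : ∀ a ∈ normalizer (S : Set X), ∀ Y ∈ F₀, cj a Y ∈ F₀)
    (hS₀ : ∀ a ∈ normalizer (S : Set X), cj a S₀ = S₀)
    (hD : ∀ Y ∈ F₀, ¬ S₀ ⊓ DD S (Qc S Y) ≤ cen Y)
    (hE : ∀ Y ∈ F₀, ∀ Y' ∈ F₀, Cm (cen (Qc S Y)) (cen (Qc S Y')))
    (h6 : ∀ Y ∈ F₀, ∀ Y' ∈ F₀, ¬ Pair S Y (M Y) (Qc S Y) Y' (M Y') (Qc S Y') (q Y))
    (hS : cen S ≠ ⊥) :
    ∃ (𝓕 : Set (Subgroup X)) (R K : Subgroup X), 𝓕 ⊆ F₀ ∧
      (R ≤ cen S ∧ R ≤ S₀ ∧ R ≠ ⊥ ∧ K ≤ S ∧ K ≠ ⊥) ∧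
      (∀ a ∈ normalizer (S : Set X), cj a R = R) ∧ (∀ a ∈ normalizer (S : Set X), cj a K = K) ∧
      (∀ Y ∈ F₀, Y ∉ 𝓕 → R ≤ cen Y) ∧ (∀ Y ∈ 𝓕, Y ≤ normalizer (K : Set X)) ∧
      (∀ Y ∈ 𝓕, cen (Qc S Y) ≤ K) ∧
      ∀ L ≤ S, (∀ Y ∈ 𝓕, Y ≤ normalizer (L : Set X)) → L ≤ K := by
  classical
  have h0 : Closed S S₀ F₀ F₀ := ⟨hne, le_rfl, htw, fun Y hY _ => hY⟩
  obtain ⟨𝓕, -, hF⟩ := Finite.exists_le_minimal (p := fun 𝒳 => Closed S S₀ F₀ 𝒳) h0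
  have hF1 : Closed S S₀ F₀ 𝓕 := hF.prop
  set K : Subgroup X := sSup {K | K ≤ S ∧ ∀ Y ∈ 𝓕, Y ≤ normalizer (K : Set X)} with hKdef
  have hKS : K ≤ S := sSup_le fun _ h => h.1
  have hKn : ∀ Y ∈ 𝓕, Y ≤ normalizer (K : Set X) := by
    intro Y hY
    apply le_normalizer_of_cj_le
    intro y hy
    unfold cj
    rw [Subgroup.map_le_iff_le_comap]
    apply sSup_le
    rintro L ⟨h1, h2⟩
    rw [← Subgroup.map_le_iff_le_comap]
    change cj y L ≤ K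
    rw [cj_eq_of_mem_normalizer (h2 Y hY hy)]
    exact le_sSup ⟨h1, h2⟩
  have hKc : ∀ a ∈ normalizer (S : Set X), cj a K = K := by
    intro a ha
    apply eq_of_le_of_card_le _ (by rw [card_cj])
    apply le_sSup
    refine ⟨?_, ?_⟩
    · have := cj_mono (g := a) hKS
      rwa [cj_eq_of_mem_normalizer ha] at this
    · intro Y hY
      have h1 := hKn _ (hF1.tw a⁻¹ (inv_mem ha) Y hY)
      have h2 := cj_normalizer_le (a := a) h1
      rwa [cj_mul, mul_inv_cancel, cj_one] at h2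
  have hfar : ∀ m, Far (fun i : 𝓕 => (i : Subgroup X)) (fun i : 𝓕 => Qc S (i : Subgroup X)) m := by
    by_contra hK
    push Not at hK
    have hne' : Nonempty 𝓕 := hF1.ne.to_subtype
    have hT : ∀ a ∈ normalizer (S : Set X), ∀ i : 𝓕, ∃ k : 𝓕,
        Tw (fun i : 𝓕 => (i : Subgroup X)) (fun i : 𝓕 => Qc S (i : Subgroup X)) a i k := by
      intro a ha i
      exact ⟨⟨cj a i, hF1.tw a ha i i.2⟩, rfl, (cj_core ha).symm⟩
    have hC : Clo S (fun i : 𝓕 => (i : Subgroup X)) (fun i : 𝓕 => Qc S (i : Subgroup X)) := by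
      intro 𝒳 hX1 hX2 hX3
      have hcl : Closed S S₀ F₀ (Subtype.val '' 𝒳) := by
        refine ⟨hX1.image _, ?_, ?_, ?_⟩
        · rintro _ ⟨Y, -, rfl⟩
          exact hF1.sub Y.2
        · rintro a ha _ ⟨Y, hY, rfl⟩
          refine ⟨⟨cj a Y, hF1.tw a ha Y Y.2⟩, ?_, rfl⟩
          exact hX2 a ha Y hY _ ⟨rfl, (cj_core ha).symm⟩
        · intro Y hY hRY
          have h1 : Y ∈ 𝓕 := by
            apply hF1.cl Y hY
            intro h2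
            apply hRY
            refine (RR_mono ?_).trans h2
            rintro _ ⟨Y, -, rfl⟩
            exact Y.2
          by_contra h2
          apply hRY
          apply iSup₂_le
          rintro _ ⟨Z, hZ, rfl⟩
          refine inf_le_right.trans (hX3 Z hZ ⟨Y, h1⟩ ?_)
          intro h3
          exact h2 ⟨⟨Y, h1⟩, h3, rfl⟩
      have h1 : 𝓕 ⊆ Subtype.val '' 𝒳 := by
        apply hF.le_of_le hcl
        rintro _ ⟨Y, -, rfl⟩
        exact Y.2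
      ext Y
      refine ⟨fun _ => Set.mem_univ _, fun _ => ?_⟩
      obtain ⟨Z, hZ, hZY⟩ := h1 Y.2
      have : Z = Y := Subtype.ext hZY
      rwa [← this]
    obtain ⟨x, y, hxy⟩ := exists_pair (ι := 𝓕) (S := S) (G := fun i => (i : Subgroup X))
      (M := fun i => M i) (Q := fun i => Qc S (i : Subgroup X)) (q := fun i => q i)
      (fun i => hPU i (hF1.sub i.2)) (fun i => hq i (hF1.sub i.2))
      (fun i j => hE i (hF1.sub i.2) j (hF1.sub j.2)) hK hT hC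
    exact h6 x (hF1.sub x.2) y (hF1.sub y.2) hxy
  obtain ⟨K₀, hK₀S, hK₀n, hK₀V⟩ := core_of_far (ι := 𝓕) (S := S) (G := fun i => (i : Subgroup X))
    (M := fun i => M i) (Q := fun i => Qc S (i : Subgroup X)) (q := fun i => q i)
    (fun i => hPU i (hF1.sub i.2)) hfar
  have hK₀K : K₀ ≤ K := le_sSup ⟨hK₀S, fun Y hY => hK₀n ⟨Y, hY⟩⟩
  have hVK : ∀ Y ∈ 𝓕, cen (Qc S Y) ≤ K := fun Y hY => (hK₀V ⟨Y, hY⟩).trans hK₀K
  have hKne : K ≠ ⊥ := by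
    intro hK
    obtain ⟨Y, hY⟩ := hF1.ne
    apply hS
    rw [eq_bot_iff, ← hK]
    exact (hPU Y (hF1.sub hY)).ZV.trans (hVK Y hY)
  have hRS : RR S S₀ 𝓕 ≤ cen S := by
    apply iSup₂_le
    intro Y hY
    exact inf_le_right.trans (hPU Y (hF1.sub hY)).DZ
  refine ⟨𝓕, RR S S₀ 𝓕, K, hF1.sub, ⟨hRS, iSup₂_le fun Y hY => inf_le_left, ?_, hKS, hKne⟩, ?_, hKc,
    ?_, hKn, hVK, fun L hL hL' => le_sSup ⟨hL, hL'⟩⟩
  · intro h1
    obtain ⟨Y, hY⟩ := hF1.ne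
    apply hD Y (hF1.sub hY)
    refine (le_RR hY).trans ?_
    rw [h1]
    exact bot_le
  · intro a ha
    apply eq_of_le_of_card_le _ (by rw [card_cj])
    unfold cj
    rw [Subgroup.map_le_iff_le_comap]
    apply iSup₂_le
    intro Y hY
    rw [← Subgroup.map_le_iff_le_comap]
    change cj a (S₀ ⊓ DD S (Qc S Y)) ≤ _
    rw [cj_inf, hS₀ a ha, cj_DD ha, cj_core ha]
    exact le_RR (hF1.tw a ha Y hY)
  · intro Y hY h1
    by_contra h2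
    exact h1 (hF1.cl Y hY h2)

/-- the core contains a minimal centrally large subgroup -/
theorem core_contains_mcl [Finite X] {S K : Subgroup X} {𝓕 : Set (Subgroup X)} (hKS : K ≤ S)
    (hKn : ∀ Y ∈ 𝓕, Y ≤ normalizer (K : Set X)) (hVK : ∀ Y ∈ 𝓕, cen (Qc S Y) ≤ K)
    (hmax : ∀ L ≤ S, (∀ Y ∈ 𝓕, Y ≤ normalizer (L : Set X)) → L ≤ K)
    (hcase : ∀ Y ∈ 𝓕, ∀ R, MCL S R → R ≤ Qc S Y ∨ (R ⊓ cen (Qc S Y) = cen S ∧
      MCL S ((R ⊓ Qc S Y) ⊔ cen (Qc S Y))))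
    (hconj : ∀ Y ∈ 𝓕, ∀ y ∈ Y, ∀ R, MCL S R → R ≤ Qc S Y → MCL S (cj y R))
    (hV : ∀ Y ∈ 𝓕, ¬ cen (Qc S Y) ≤ cen S) : ∃ R, MCL S R ∧ R ≤ K := by
  classical
  obtain ⟨R₀, hR₀⟩ := exists_mcl S
  obtain ⟨R₁, hR₁, hR₁m⟩ := (Set.toFinite {R : Subgroup X | MCL S R}).exists_maximalFor
    (fun R => Nat.card (R ⊓ K : Subgroup X)) _ ⟨R₀, hR₀⟩
  have hle : ∀ R, MCL S R → Nat.card (R ⊓ K : Subgroup X) ≤ Nat.card (R₁ ⊓ K : Subgroup X) := by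
    intro R hR
    by_contra h1
    push Not at h1
    exact absurd (hR₁m hR h1.le) (not_le.2 h1)
  let 𝒮 : Set (Subgroup X) := {R | MCL S R ∧
    Nat.card (R ⊓ K : Subgroup X) = Nat.card (R₁ ⊓ K : Subgroup X)}
  have hQ : ∀ Y ∈ 𝓕, ∀ R ∈ 𝒮, R ≤ Qc S Y := by
    rintro Y hY R ⟨hR, hRc⟩
    rcases hcase Y hY R hR with h1 | ⟨h1, h2⟩
    · exact h1
    · exfalso
      have hKQ : K ≤ Qc S Y := le_Qc hKS (hKn Y hY)
      have h3 := hle _ h2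
      rw [← hRc] at h3
      have h4 : R ⊓ K ≤ ((R ⊓ Qc S Y) ⊔ cen (Qc S Y)) ⊓ K :=
        le_inf ((inf_le_inf_left R hKQ).trans le_sup_left) inf_le_right
      have h5 := eq_of_le_of_card_le h4 h3
      apply hV Y hY
      rw [← h1]
      have h6 : cen (Qc S Y) ≤ ((R ⊓ Qc S Y) ⊔ cen (Qc S Y)) ⊓ K := le_inf le_sup_right (hVK Y hY)
      rw [← h5] at h6
      exact le_inf (h6.trans inf_le_left) le_rfl
  have hL : sSup 𝒮 ≤ K := by
    apply hmax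
    · exact sSup_le fun R hR => hR.1.1.1
    · intro Y hY
      apply le_normalizer_of_cj_le
      intro y hy
      unfold cj
      rw [Subgroup.map_le_iff_le_comap]
      apply sSup_le
      intro R hR
      rw [← Subgroup.map_le_iff_le_comap]
      change cj y R ≤ sSup 𝒮
      apply le_sSup
      refine ⟨hconj Y hY y hy R hR.1 (hQ Y hY R hR), ?_⟩
      have h1 : cj y K = K := cj_eq_of_mem_normalizer (hKn Y hY hy)
      have h2 : cj y R ⊓ K = cj y (R ⊓ K) := by rw [cj_inf, h1]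
      rw [h2, card_cj]
      exact hR.2
  exact ⟨R₁, hR₁, (le_sSup (show R₁ ∈ 𝒮 from ⟨hR₁, rfl⟩)).trans hL⟩

section

variable {G : Type*} [Group G] (φ : G →* X) (hφ : Function.Injective φ)

include hφ

theorem mu_map' (R : Subgroup G) : mu (R.map φ) = mu R := by
  unfold mu
  rw [← map_cen φ hφ, card_map' φ hφ, card_map' φ hφ]

theorem clr_map {S R : Subgroup G} : CLr (S.map φ) (R.map φ) ↔ CLr S R := by
  constructor
  · rintro ⟨h1, h2⟩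
    rw [map_le_iff' φ hφ] at h1
    refine ⟨h1, fun R' hR' => ?_⟩
    have h3 := h2 _ (Subgroup.map_mono hR')
    rwa [mu_map' φ hφ, mu_map' φ hφ] at h3
  · rintro ⟨h1, h2⟩
    refine ⟨Subgroup.map_mono h1, fun R' hR' => ?_⟩
    have h3 : (R'.comap φ).map φ = R' := Subgroup.map_comap_eq_self (hR'.trans (map_le_range φ S))
    have h4 : R'.comap φ ≤ S := by
      rw [← map_le_iff' φ hφ, h3]; exact hR'
    rw [← h3, mu_map' φ hφ, mu_map' φ hφ]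
    exact h2 _ h4

theorem mcl_map {S R : Subgroup G} : MCL (S.map φ) (R.map φ) ↔ MCL S R := by
  constructor
  · rintro ⟨h1, h2⟩
    rw [clr_map φ hφ] at h1
    refine ⟨h1, fun R' hR' hc => ?_⟩
    have h3 := h2 _ (Subgroup.map_mono hR') ((clr_map φ hφ).2 hc)
    exact Subgroup.map_injective hφ h3
  · rintro ⟨h1, h2⟩
    refine ⟨(clr_map φ hφ).2 h1, fun R' hR' hc => ?_⟩
    have h3 : (R'.comap φ).map φ = R' := Subgroup.map_comap_eq_self (hR'.trans (map_le_range φ R))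
    have h4 : R'.comap φ ≤ R := by
      rw [← map_le_iff' φ hφ, h3]; exact hR'
    rw [← h3] at hc ⊢
    rw [h2 _ h4 ((clr_map φ hφ).1 hc)]

end

end Cfsg.Agent.H259.GN
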