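import Cfsg.Agent.H259.GN1

/-!
# Uniform Glauberman–Niles: the ambient group

All groups `G` with a given subgroup `S` and `|G|` dividing `|S| N` embed in the symmetric group on
`S × Fin N` in such a way that the embedding of `S` is the fixed semiregular one.
-/

set_option autoImplicit false
set_option linter.unusedSectionVars false

namespace Cfsg.Agent.H259.GN

open Subgroup
open Cfsg.Agent.H260.Push

universe u

section

variable (S : Type u) [Group S] (N : ℕ)

/-- the semiregular action -/
def lam : S →* Equiv.Perm (S × Fin N) where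
  toFun s := (Equiv.mulLeft s).prodCongr (Equiv.refl _)
  map_one' := by
    ext x <;> simp
  map_mul' s t := by
    ext x <;> simp [mul_assoc]

theorem lam_apply (s : S) (x : S × Fin N) : lam S N s x = (s * x.1, x.2) := rfl

theorem lam_injective (hN : 0 < N) : Function.Injective (lam S N) := by
  intro s t h
  have h1 := congrArg (fun f : Equiv.Perm (S × Fin N) => (f (1, ⟨0, hN⟩)).1) h
  simpa [lam_apply] using h1

/-- automorphisms of `S` are realised in the ambient group -/
theorem exists_aut (α : S ≃* S) : ∃ a : Equiv.Perm (S × Fin N), ∀ s, a * lam S N s * a⁻¹ = lam S N (α s) := by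
  refine ⟨α.toEquiv.prodCongr (Equiv.refl _), fun s => ?_⟩
  rw [mul_inv_eq_iff_eq_mul]
  ext x <;> simp [lam_apply]

end

variable {S : Type u} [Group S] {N : ℕ}

theorem exists_embed [Finite S] {G : Type u} [Group G] [Finite G] (τ : S →* G)
    (hτ : Function.Injective τ) (hN : Nat.card G ∣ Nat.card S * N) :
    ∃ φ : G →* Equiv.Perm (S × Fin N), (∀ s, φ (τ s) = lam S N s) ∧
      (0 < N → Function.Injective φ) := by
  classical
  obtain ⟨k, hk⟩ := hN
  set H : Subgroup G := τ.range with hH
  -- `S × (G ⧸ H) ≃ G`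
  let f : S × (G ⧸ H) → G := fun x => τ x.1 * (Quotient.out x.2)⁻¹
  have hf : Function.Bijective f := by
    constructor
    · rintro ⟨s, x⟩ ⟨t, y⟩ hst
      have h1 : τ s * (Quotient.out x)⁻¹ = τ t * (Quotient.out y)⁻¹ := hst
      have h2 : x = y := by
        rw [← Quotient.out_eq' x, ← Quotient.out_eq' y]
        rw [Quotient.eq'', QuotientGroup.leftRel_apply]
        have h3 : (Quotient.out x)⁻¹ * Quotient.out y = (τ s)⁻¹ * τ t := by
          have : (Quotient.out x)⁻¹ = (τ s)⁻¹ * (τ t * (Quotient.out y)⁻¹) := by rw [← h1]; group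
          rw [this]; group
        rw [h3]
        exact ⟨s⁻¹ * t, by simp⟩
      subst h2
      have h3 := hτ (mul_right_cancel h1)
      rw [h3]
    · intro g
      have h1 := QuotientGroup.mk_out_eq_mul H g⁻¹
      obtain ⟨⟨_, ⟨s, rfl⟩⟩, hs⟩ := h1
      refine ⟨(s, (QuotientGroup.mk g⁻¹ : G ⧸ H)), ?_⟩
      change τ s * (Quotient.out (QuotientGroup.mk g⁻¹ : G ⧸ H))⁻¹ = g
      rw [hs]
      simp
  let e₁ : S × (G ⧸ H) ≃ G := Equiv.ofBijective f hf
  have he₁ : ∀ s x, e₁ (s * x.1, x.2) = τ s * e₁ x := by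
    intro s x
    change τ (s * x.1) * _ = τ s * (τ x.1 * _)
    rw [map_mul, mul_assoc]
  have hcS : 0 < Nat.card S := Nat.card_pos
  have hcard : Nat.card (Fin N) = Nat.card ((G ⧸ H) × Fin k) := by
    have h1 : Nat.card (S × (G ⧸ H)) = Nat.card G := Nat.card_congr e₁
    rw [Nat.card_prod] at h1
    rw [Nat.card_prod, Nat.card_fin, Nat.card_fin]
    apply Nat.eq_of_mul_eq_mul_left hcS
    rw [hk, ← h1]
    ring
  obtain ⟨e₂⟩ : Nonempty (Fin N ≃ (G ⧸ H) × Fin k) :=
    ⟨(Finite.equivFinOfCardEq ((Nat.card_fin N).symm.trans hcard |>.symm)).symm⟩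
  let e : S × Fin N ≃ G × Fin k :=
    ((Equiv.refl S).prodCongr e₂).trans (((Equiv.prodAssoc S (G ⧸ H) (Fin k)).symm).trans
      (e₁.prodCongr (Equiv.refl _)))
  have he : ∀ s x, e (s * x.1, x.2) = (τ s * (e x).1, (e x).2) := by
    intro s x
    have h1 := he₁ s (x.1, (e₂ x.2).1)
    change (e₁ (s * x.1, (e₂ x.2).1), (e₂ x.2).2) = (τ s * e₁ (x.1, (e₂ x.2).1), (e₂ x.2).2)
    rw [h1]
  let φ : G →* Equiv.Perm (S × Fin N) :=
    { toFun := fun g => (e.trans ((Equiv.mulLeft g).prodCongr (Equiv.refl _))).trans e.symm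
      map_one' := by
        ext x <;> simp
      map_mul' := by
        intro g g'
        ext1 x
        change e.symm ((g * g') * (e x).1, (e x).2) =
          e.symm (g * (e (e.symm (g' * (e x).1, (e x).2))).1, (e (e.symm (g' * (e x).1, (e x).2))).2)
        rw [Equiv.apply_symm_apply, mul_assoc] }
  have hφ : ∀ g x, φ g x = e.symm (g * (e x).1, (e x).2) := fun g x => rfl
  refine ⟨φ, ?_, ?_⟩
  · intro s
    ext1 x
    rw [hφ, lam_apply, Equiv.symm_apply_eq, he]
  · intro hN g g' hgg
    have h1 : φ g (1, ⟨0, hN⟩) = φ g' (1, ⟨0, hN⟩) := by rw [hgg]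
    rw [hφ, hφ, EmbeddingLike.apply_eq_iff_eq, Prod.mk.injEq] at h1
    exact mul_right_cancel h1.1

/-- the order of a group of characteristic `p` -/
theorem card_dvd_of_centralizer_le {G : Type*} [Group G] [Finite G] (Q : Subgroup G) [Q.Normal]
    (hQ : centralizer (Q : Set G) ≤ Q) : Nat.card G ∣ Nat.card Q * (Nat.card Q).factorial := by
  classical
  let f : G →* MulAut Q := MulAut.conjNormal
  have hker : f.ker = centralizer (Q : Set G) := by
    ext g
    rw [MonoidHom.mem_ker, mem_centralizer_iff]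
    constructor
    · intro h x hx
      have h1 := congrArg (fun (a : MulAut Q) => ((a ⟨x, hx⟩ : Q) : G)) h
      simp only [f, MulAut.conjNormal_apply, MulAut.one_apply] at h1
      rw [mul_inv_eq_iff_eq_mul] at h1
      exact h1.symm
    · intro h
      ext x
      simp only [f, MulAut.conjNormal_apply, MulAut.one_apply]
      rw [mul_inv_eq_iff_eq_mul]
      exact (h x x.2).symm
  have h1 : Nat.card G = Nat.card (G ⧸ f.ker) * Nat.card f.ker :=
    Subgroup.card_eq_card_quotient_mul_card_subgroup _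
  have h2 : Nat.card (G ⧸ f.ker) = Nat.card f.range :=
    Nat.card_congr (QuotientGroup.quotientKerEquivRange f).toEquiv
  have h3 : Nat.card f.range ∣ Nat.card (MulAut Q) := Subgroup.card_subgroup_dvd_card _
  have h4 : Nat.card (MulAut Q) ∣ (Nat.card Q).factorial := by
    have h5 : Nat.card (Equiv.Perm Q) = (Nat.card Q).factorial := Nat.card_perm
    rw [← h5]
    let g : MulAut Q →* Equiv.Perm Q := MulAut.toPerm Q
    have hg : Function.Injective g := by
      intro a b hab
      ext x
      have := congrArg (fun (σ : Equiv.Perm Q) => ((σ x : Q) : G)) hab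
      exact this
    exact Subgroup.card_dvd_of_injective g hg
  have h5 : Nat.card f.ker ∣ Nat.card Q := by
    rw [hker]
    exact Subgroup.card_dvd_of_le hQ
  rw [h1, h2, mul_comm]
  exact mul_dvd_mul h5 (h3.trans h4)

end Cfsg.Agent.H259.GN
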