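import Cfsg.Agent.H259.GN2

/-!
# Uniform Glauberman–Niles: two types at distance two

`Pair S G M Q H N P q`: two rank one pushing-up groups `G`, `H` over the same `S` such that `Z(O_p(G))`,
`Z(O_p(H))` commute, `Z(O_p(H))` does not commute with its opposite `G`-conjugates and `Z(O_p(G))` does not
commute with its opposite `H`-conjugates.
-/

set_option autoImplicit false
set_option linter.unusedSectionVars false

namespace Cfsg.Agent.H259.GN

open Subgroup
open Cfsg.Agent.H260.Push
open scoped commutatorElement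

variable {X : Type*} [Group X]

/-- Two types `G` (maximal subgroup `M`, `Q = O_p(G)`) and `H` (maximal subgroup `N`, `P = O_p(H)`). -/
structure Pair (S G M Q H N P : Subgroup X) (q : ℕ) : Prop where
  hG : PU S G M Q q
  hH : PU S H N P q
  comm : Cm (cen Q) (cen P)
  ncG : ∀ g ∈ G, g ∉ M → ¬ Cm (cen P) (cj g (cen P))
  ncH : ∀ h ∈ H, h ∉ N → ¬ Cm (cen Q) (cj h (cen Q))
  DG : DD S Q ≤ cen H
  DH : DD S P ≤ cen G

namespace Pair

variable {S G M Q H N P : Subgroup X} {q : ℕ}

theorem symm (h : Pair S G M Q H N P q) : Pair S H N P G M Q q :=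
  ⟨h.hH, h.hG, h.comm.symm, h.ncH, h.ncG, h.DH, h.DG⟩

/-- auxiliary: the two-member family -/
def fam (A B : Subgroup X) : Bool → Subgroup X := fun b => if b then B else A

variable (h : Pair S G M Q H N P q)
include h

theorem famPU : ∀ i, PU S (fam G H i) (fam M N i) (fam Q P i) ((fun _ => q : Bool → ℕ) i) := by
  intro i
  cases i
  · exact h.hG
  · exact h.hH

theorem far : Far (fam G H) (fam Q P) 1 := by
  intro L _ hl i j
  have h0 : L = [] := List.eq_nil_of_length_eq_zero (by omega)
  subst h0
  rw [pr_nil, cj_one]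
  cases i <;> cases j
  · exact fun a ha b hb => (cen_comm hb (cen_le _ ha))
  · exact h.comm
  · exact h.comm.symm
  · exact fun a ha b hb => (cen_comm hb (cen_le _ ha))

theorem crit {g : X} (hg : g ∈ G) (hn : ¬ Cm (cen P) (cj g (cen P))) :
    Crit (fam G H) (fam Q P) 1 true [(false, g)] true := by
  refine ⟨?_, rfl, ?_⟩
  · intro x hx
    simp only [List.mem_singleton] at hx
    subst hx
    exact hg
  · have : pr [((false : Bool), g)] = g := by simp
    rw [this]
    exact hn

/-- conjugates of `Z(O_p(H))` under `G` lie in `Q` -/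
theorem cj_le_Q {g : X} (hg : g ∈ G) : cj g (cen P) ≤ Q := by
  have h1 : cen P ≤ Q := h.hG.le_Q_of_cm h.hH.VS h.comm
  have := cj_mono (g := g) h1
  rwa [h.hG.cjQ hg] at this

section

variable {g : X} (hg : g ∈ G) (hn : ¬ Cm (cen P) (cj g (cen P)))
include hg hn

omit h hg hn in
theorem pr_single (g : X) : pr [((false : Bool), g)] = g := by simp

variable [Finite X]

theorem inf : cj g (cen P) ⊓ P = cj g (cen S) := by
  have := crit_inf h.famPU h.far (h.crit hg hn)
  rwa [pr_single] at this

theorem sup : cj g (cen P) ⊔ P = S := by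
  have := crit_sup h.famPU h.far (h.crit hg hn)
  rwa [pr_single] at this

theorem sup' : cen P ⊔ cj g P = cj g S := by
  have := crit_sup' h.famPU h.far (h.crit hg hn)
  rwa [pr_single] at this

theorem comm_eq : ⁅cen P, cj g (cen P)⁆ = DD S P := by
  have := crit_D h.famPU h.far (h.crit hg hn)
  rwa [pr_single] at this

end

/-- the subgroup `[V', S]` is fixed by `G` -/
theorem cj_DH {g : X} (hg : g ∈ G) : cj g (DD S P) = DD S P := h.hG.cenG_norm hg h.DH

/-- commutators of conjugates -/
theorem comm_le [Finite X] {g g' : X} (hg : g ∈ G) (hg' : g' ∈ G) :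
    ⁅cj g (cen P), cj g' (cen P)⁆ ≤ DD S P := by
  have e : ⁅cj g (cen P), cj g' (cen P)⁆ = cj g ⁅cen P, cj (g⁻¹ * g') (cen P)⁆ := by
    rw [cj_commutator, cj_mul]
    congr 2
    group
  rw [e]
  by_cases h1 : Cm (cen P) (cj (g⁻¹ * g') (cen P))
  · rw [commutator_eq_bot_iff'.2 h1, cj, Subgroup.map_bot]
    exact bot_le
  · rw [h.comm_eq (mul_mem (inv_mem hg) hg') h1, h.cj_DH hg]

end Pair

end Cfsg.Agent.H259.GN
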