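import Cfsg.Agent.H259.GN5
import Cfsg.Agent.H37.GND

/-!
# Uniform Glauberman–Niles: the statement (D)
-/

set_option autoImplicit false

namespace Cfsg.Agent.H259.GN

open Subgroup

universe u

theorem stD (p : ℕ) [Fact p.Prime] : StD.{u} p := by
  intro G _ _ q S T M c n _ hZ _ h0
  have h2 : (S0 p (⊤ : Subgroup S)).map S.subtype = S0 p S := by
    rw [S0_map, ← MonoidHom.range_eq_map, Subgroup.range_subtype]
  have h1 := H37.GND.D c n hZ (S0 p (⊤ : Subgroup S)) (S0_top c.pgS) (by rw [h2]; exact h0)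
  rw [h2] at h1
  exact h1

end Cfsg.Agent.H259.GN
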