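import Cfsg.Agent.H259.GN5
import Cfsg.Agent.H37.GNE

/-!
# Uniform Glauberman–Niles: the statement (E)
-/

set_option autoImplicit false

namespace Cfsg.Agent.H259.GN

open Subgroup

universe u

theorem stE (p : ℕ) [Fact p.Prime] : StE.{u} p := by
  intro X _ _ q q' S G M Q G' M' Q' h h' hp _ hV hV' hnc
  have h1 := H37.GNE.E h h' hp hV hV' hnc (S0 p (⊤ : Subgroup S)) (S0_top hp)
  rw [S0_map, ← MonoidHom.range_eq_map, Subgroup.range_subtype] at h1
  exact h1

end Cfsg.Agent.H259.GN
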